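import Mathlib
import Cfsg.Prelude.Def_Blocks
import Cfsg.Agent.S0153
import Cfsg.Agent.Lib.Helper78.ClassAlg
import Cfsg.Agent.Lib.Helper16.LocalRed
import Cfsg.Agent.Lib.Helper16.OrbitSum

/-!
# Relative central characters

`ψ` is a character of `G` whose restriction to the normal subgroup `N` is irreducible.  Then the
`N`-invariant elements of the group algebra act as scalars in a representation affording `ψ`.
-/

set_option autoImplicit false

namespace Cfsg.Agent.Lib.Helper16

open Cfsg Cfsg.Agent.Lib.Helper78 Representation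

noncomputable section

variable {G : Type*} [Group G]

/-- transport a representation of `G` so that it restricts to a given representation of `N`
with the same character -/
theorem exists_rep_extending [Finite G] (N : Subgroup G) {ψ : G → ℂ} (hψ : IsCharacter G ψ)
    {V : Type*} [AddCommGroup V] [Module ℂ V] [FiniteDimensional ℂ V] (σ : Representation ℂ N V)
    (hres : ∀ n : N, ψ n = σ.character n) :
    ∃ R : Representation ℂ G V, R.character = ψ ∧ ∀ n : N, R n = σ n := by
  obtain ⟨k, R₀, rfl⟩ := hψ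
  let R₀N : Representation ℂ N (Fin k → ℂ) := R₀.comp N.subtype
  have h1 : R₀N.character = σ.character := by
    funext n
    exact hres n
  obtain ⟨e⟩ := Cfsg.Agent.S0153.result R₀N σ h1
  let E := e.toLinearEquiv
  have hE : ∀ n : N, E.toLinearMap ∘ₗ R₀N n = σ n ∘ₗ E.toLinearMap := fun n => e.isIntertwining' n
  let R : Representation ℂ G V :=
    { toFun := fun g => E.toLinearMap ∘ₗ R₀ g ∘ₗ E.symm.toLinearMap
      map_one' := by
        ext v
        simp
      map_mul' := by
        intro a b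
        ext v
        simp }
  refine ⟨R, ?_, ?_⟩
  · funext g
    change LinearMap.trace ℂ V (E.toLinearMap ∘ₗ R₀ g ∘ₗ E.symm.toLinearMap) = _
    exact LinearMap.trace_conj' (R₀ g) E
  · intro n
    change E.toLinearMap ∘ₗ R₀N n ∘ₗ E.symm.toLinearMap = σ n
    rw [← LinearMap.comp_assoc, hE, LinearMap.comp_assoc, LinearEquiv.comp_symm, LinearMap.comp_id]

/-- Relative generalized orthogonality: averaging over `N` only. -/
theorem sum_mul_conj_rel [Fintype G] (N : Subgroup G) [Fintype N] {ψ : G → ℂ}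
    (hψ : IsCharacter G ψ) (hres : IsIrrCharacter N (fun n : N => ψ n)) (x g : G) :
    ∑ n : N, ψ (x * ((n : G) * g * (n : G)⁻¹)) = (Fintype.card N : ℂ) * ψ x * ψ g / ψ 1 := by
  obtain ⟨d, σ, hirr, hσ⟩ := hres
  haveI := hirr
  obtain ⟨R, rfl, hR⟩ := exists_rep_extending N hψ σ (fun n => (congrFun hσ n).symm)
  set T : Module.End ℂ (Fin d → ℂ) := ∑ n : N, R ((n : G) * g * (n : G)⁻¹) with hT
  have hcomm : ∀ m : N, T ∘ₗ σ m = σ m ∘ₗ T := by
    intro m
    change T * σ m = σ m * T
    rw [← hR m, hT, Finset.sum_mul, Finset.mul_sum, ← Equiv.sum_comp (Equiv.mulLeft m)]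
    refine Finset.sum_congr rfl fun y _ => ?_
    rw [← map_mul, ← map_mul]
    congr 1
    simp only [Equiv.coe_mulLeft, Subgroup.coe_mul]
    group
  have h2 := Helper81.schur_scalar_trace σ T hcomm
  have htr : LinearMap.trace ℂ _ T = (Fintype.card N : ℂ) * R.character g := by
    rw [hT, map_sum]
    have : ∀ y : N, LinearMap.trace ℂ _ (R ((y : G) * g * (y : G)⁻¹)) = R.character g := fun y =>
      char_conj R g y
    simp only [this]
    simp
  have h1 : ∑ n : N, R.character (x * ((n : G) * g * (n : G)⁻¹))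
      = LinearMap.trace ℂ _ (R x * T) := by
    rw [hT, Finset.mul_sum, map_sum]
    refine Finset.sum_congr rfl fun y _ => ?_
    unfold character
    rw [map_mul R x]
  rw [h1, h2, htr]
  have : R x * (((Fintype.card N : ℂ) * R.character g / (Module.finrank ℂ (Fin d → ℂ) : ℂ)) •
      (LinearMap.id : (Fin d → ℂ) →ₗ[ℂ] (Fin d → ℂ))) =
      ((Fintype.card N : ℂ) * R.character g / (Module.finrank ℂ (Fin d → ℂ) : ℂ)) • R x := by
    ext v; simp
  rw [this, map_smul, char_one]
  simp only [character, smul_eq_mul]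
  ring

/-- invariance of a function on `G` under conjugation by `N` -/
def NInv (N : Subgroup G) (a : G → ℂ) : Prop := ∀ n ∈ N, ∀ g : G, a (n * g * n⁻¹) = a g

/-- the function is supported on the coset `N x` -/
def SuppCoset (N : Subgroup G) (x : G) (a : G → ℂ) : Prop := ∀ g : G, a g ≠ 0 → g * x⁻¹ ∈ N

theorem NInv.of_isClassFunction (N : Subgroup G) {a : G → ℂ} (ha : IsClassFunction G a) :
    NInv N a := fun n _ g => ha g n

section Fin

variable [Fintype G] (N : Subgroup G)

theorem NInv.conv {N : Subgroup G} {a b : G → ℂ} (ha : NInv N a) (hb : NInv N b) :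
    NInv N (conv a b) := by
  intro h hh g
  unfold Helper78.conv
  rw [← Equiv.sum_comp (MulAut.conj h).toEquiv]
  refine Finset.sum_congr rfl fun x _ => ?_
  have h1 : (MulAut.conj h).toEquiv x = h * x * h⁻¹ := rfl
  rw [h1, ha h hh]
  have h2 : (h * x * h⁻¹)⁻¹ * (h * g * h⁻¹) = h * (x⁻¹ * g) * h⁻¹ := by group
  rw [h2, hb h hh]

theorem SuppCoset.conv {N : Subgroup G} [hN : N.Normal] {x y : G} {a b : G → ℂ}
    (ha : SuppCoset N x a) (hb : SuppCoset N y b) : SuppCoset N (x * y) (conv a b) := by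
  intro g hg
  unfold Helper78.conv at hg
  obtain ⟨t, -, ht⟩ := Finset.exists_ne_zero_of_sum_ne_zero hg
  have h1 := ha t (left_ne_zero_of_mul ht)
  have h2 := hb _ (right_ne_zero_of_mul ht)
  have h3 : g * (x * y)⁻¹ = (t * (t⁻¹ * g * y⁻¹) * t⁻¹) * (t * x⁻¹) := by group
  rw [h3]
  exact N.mul_mem (hN.conj_mem _ h2 t) h1

theorem sum_conv (a b : G → ℂ) : ∑ g : G, conv a b g = (∑ g, a g) * ∑ g, b g := by
  have := sum_conv_mul a b (fun _ => 1)
  simp only [mul_one] at this
  rw [this, Finset.sum_mul_sum]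

theorem omega_conv_rel [Fintype N] {ψ : G → ℂ} (hψ : IsCharacter G ψ)
    (hres : IsIrrCharacter N (fun n : N => ψ n)) (a : G → ℂ) {b : G → ℂ}
    (hb : NInv N b) : omega ψ (conv a b) = omega ψ a * omega ψ b := by
  have hcard : (Fintype.card N : ℂ) ≠ 0 := by
    exact_mod_cast Fintype.card_ne_zero
  have hχ1 : ψ 1 ≠ 0 := irr_one_ne_zero ⟨_, hres⟩
  have key : ∀ x : G, ∑ y : G, b y * ψ (x * y) = ψ x * (∑ y : G, b y * ψ y) / ψ 1 := by
    intro x
    have h1 : ∀ t : N, ∑ y : G, b y * ψ (x * y)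
        = ∑ y : G, b y * ψ (x * ((t : G) * y * (t : G)⁻¹)) := by
      intro t
      rw [← Equiv.sum_comp (MulAut.conj (t : G)).toEquiv]
      refine Finset.sum_congr rfl fun y _ => ?_
      have h1 : (MulAut.conj (t : G)).toEquiv y = (t : G) * y * (t : G)⁻¹ := rfl
      rw [h1, hb _ t.2]
    have h2 : (Fintype.card N : ℂ) * ∑ y : G, b y * ψ (x * y)
        = ∑ t : N, ∑ y : G, b y * ψ (x * ((t : G) * y * (t : G)⁻¹)) := by
      rw [← Finset.sum_congr rfl fun t _ => h1 t]
      simp
    rw [Finset.sum_comm] at h2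
    simp_rw [← Finset.mul_sum, sum_mul_conj_rel N hψ hres] at h2
    have h3 : ∑ y : G, b y * ((Fintype.card N : ℂ) * ψ x * ψ y / ψ 1)
        = (Fintype.card N : ℂ) * (ψ x * (∑ y : G, b y * ψ y) / ψ 1) := by
      rw [Finset.mul_sum, Finset.sum_div, Finset.mul_sum]
      refine Finset.sum_congr rfl fun y _ => by ring
    rw [h3] at h2
    exact mul_left_cancel₀ hcard h2
  unfold omega
  rw [sum_conv_mul]
  have : ∀ x : G, ∑ y : G, a x * b y * ψ (x * y) = a x * (ψ x * (∑ y : G, b y * ψ y) / ψ 1) := by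
    intro x
    rw [← key x, Finset.mul_sum]
    refine Finset.sum_congr rfl fun y _ => by ring
  simp_rw [this]
  have h4 : ∀ x : G, a x * (ψ x * (∑ y : G, b y * ψ y) / ψ 1)
      = (a x * ψ x) * ((∑ y : G, b y * ψ y) / ψ 1) := fun x => by ring
  simp_rw [h4]
  rw [← Finset.sum_mul]
  ring

/-! ### Orbits of `N` on `G` -/

/-- `N` as a group of conjugations -/
abbrev cjGrp (N : Subgroup G) : Subgroup (ConjAct G) := N.map (ConjAct.toConjAct (G := G)).toMonoidHom

theorem cjGrp_smul (γ : cjGrp N) (g : G) : ∃ n ∈ N, γ • g = n * g * n⁻¹ := by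
  obtain ⟨γ, n, hn, rfl⟩ := γ
  exact ⟨n, hn, rfl⟩

theorem mem_orbit_cjGrp_iff (x y : G) :
    y ∈ MulAction.orbit (cjGrp N) x ↔ ∃ n ∈ N, y = n * x * n⁻¹ := by
  constructor
  · rintro ⟨γ, rfl⟩
    exact cjGrp_smul N γ x
  · rintro ⟨n, hn, rfl⟩
    exact ⟨⟨ConjAct.toConjAct n, n, hn, rfl⟩, rfl⟩

/-- size of the `N`-class of `y` -/
def cN (y : G) : ℕ := Nat.card (MulAction.orbit (cjGrp N) y)

open Classical in
/-- indicator function of the `N`-class of `y` -/
def orbInd (y : G) : G → ℂ := fun x => if x ∈ MulAction.orbit (cjGrp N) y then 1 else 0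

theorem orbInd_NInv (y : G) : NInv N (orbInd N y) := by
  intro n hn g
  unfold orbInd
  have : n * g * n⁻¹ ∈ MulAction.orbit (cjGrp N) y ↔ g ∈ MulAction.orbit (cjGrp N) y := by
    have h1 : n * g * n⁻¹ = (⟨ConjAct.toConjAct n, n, hn, rfl⟩ : cjGrp N) • g := rfl
    rw [h1, MulAction.mem_orbit_symm, MulAction.orbit_smul, MulAction.mem_orbit_symm]
  classical
  exact if_congr this rfl rfl

theorem orbInd_suppCoset [hN : N.Normal] (y : G) : SuppCoset N y (orbInd N y) := by
  intro g hg
  unfold orbInd at hg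
  split_ifs at hg with h
  · obtain ⟨n, hn, rfl⟩ := (mem_orbit_cjGrp_iff N y g).1 h
    have : n * y * n⁻¹ * y⁻¹ = n * (y * n⁻¹ * y⁻¹) := by group
    rw [this]
    exact N.mul_mem hn (hN.conj_mem _ (N.inv_mem hn) y)
  · exact absurd rfl hg

theorem sum_NInv {w : G → ℂ} (hw : NInv N w) [Fintype (MulAction.orbitRel.Quotient (cjGrp N) G)] :
    ∑ g, w g = ∑ ω : MulAction.orbitRel.Quotient (cjGrp N) G, (cN N ω.out : ℂ) * w ω.out := by
  rw [sum_eq_sum_orbits (Γ := cjGrp N) w]
  · simp [cN, nsmul_eq_mul]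
  · intro γ x
    obtain ⟨n, hn, h⟩ := cjGrp_smul N γ x
    rw [h, hw n hn]

theorem sum_orbInd_mul {w : G → ℂ} (hw : NInv N w) (y : G) :
    ∑ g, orbInd N y g * w g = (cN N y : ℂ) * w y := by
  classical
  unfold orbInd cN
  have h1 : ∀ g, (if g ∈ MulAction.orbit (cjGrp N) y then (1 : ℂ) else 0) * w g
      = if g ∈ MulAction.orbit (cjGrp N) y then w y else 0 := by
    intro g
    split_ifs with h
    · obtain ⟨n, hn, rfl⟩ := (mem_orbit_cjGrp_iff N y g).1 h
      rw [one_mul, hw n hn]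
    · simp
  simp_rw [h1]
  rw [← Finset.sum_filter, Finset.sum_const, nsmul_eq_mul]
  congr 2
  rw [Nat.card_eq_fintype_card, Fintype.card_subtype]

theorem sum_orbInd (y : G) : ∑ g, orbInd N y g = (cN N y : ℂ) := by
  have := sum_orbInd_mul N (w := fun _ => 1) (fun _ _ _ => rfl) y
  simpa using this

/-- the relative central character -/
def wrel (ψ : G → ℂ) (y : G) : ℂ := (cN N y : ℂ) * ψ y / ψ 1

theorem omega_orbInd {ψ : G → ℂ} (hψ : IsClassFunction G ψ) (y : G) :
    omega ψ (orbInd N y) = wrel N ψ y := by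
  unfold omega wrel
  rw [sum_orbInd_mul N (NInv.of_isClassFunction N hψ)]

theorem omega_eq_sum_orbits {ψ a : G → ℂ} (hψ : IsClassFunction G ψ) (ha : NInv N a)
    [Fintype (MulAction.orbitRel.Quotient (cjGrp N) G)] :
    omega ψ a = ∑ ω : MulAction.orbitRel.Quotient (cjGrp N) G, a ω.out * wrel N ψ ω.out := by
  unfold omega wrel
  rw [sum_NInv N (w := fun g => a g * ψ g), Finset.sum_div]
  · refine Finset.sum_congr rfl fun ω _ => by ring
  · intro n hn g
    simp only
    rw [ha n hn, hψ]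

end Fin

end

end Cfsg.Agent.Lib.Helper16
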