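import Mathlib
import Cfsg.Agent.Lib.Helper16.RelOmega
import Cfsg.Agent.Lib.Helper16.Modular

/-!
# The multiplicative function `κ` attached to an extension of a principal block character
-/

set_option autoImplicit false

namespace Cfsg.Agent.Lib.Helper16

open Cfsg Cfsg.Agent.Lib.Helper78

noncomputable section

variable {G : Type*} [Group G] [Fintype G] (N : Subgroup G)

theorem cN_pos (y : G) : 0 < cN N y := by
  unfold cN
  haveI : Nonempty (MulAction.orbit (cjGrp N) y) := ⟨⟨y, MulAction.mem_orbit_self y⟩⟩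
  exact Nat.card_pos

theorem conv_orbInd_nat (h g y : G) : ∃ n : ℕ, conv (orbInd N h) (orbInd N g) y = n := by
  classical
  unfold conv orbInd
  refine ⟨(Finset.univ.filter fun x => x ∈ MulAction.orbit (cjGrp N) h ∧
    x⁻¹ * y ∈ MulAction.orbit (cjGrp N) g).card, ?_⟩
  rw [Finset.card_filter]
  push_cast
  refine Finset.sum_congr rfl fun x _ => ?_
  by_cases h1 : x ∈ MulAction.orbit (cjGrp N) h <;>
    by_cases h2 : x⁻¹ * y ∈ MulAction.orbit (cjGrp N) g <;> simp [h1, h2]

theorem isIntegral_wrel [Fintype N] {ψ : G → ℂ} (hψ : IsCharacter G ψ)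
    (hres : IsIrrCharacter N (fun n : N => ψ n)) (h : G) : IsIntegral ℤ (wrel N ψ h) := by
  classical
  haveI : Fintype (MulAction.orbitRel.Quotient (cjGrp N) G) := Fintype.ofFinite _
  have hcl : IsClassFunction G ψ := Helper74.IsCharacter.isClassFunction hψ
  have hχ1 : ψ 1 ≠ 0 := irr_one_ne_zero ⟨_, hres⟩
  let S : Submodule ℤ ℂ := Submodule.span ℤ (Set.range (wrel N ψ))
  have hS : S ≠ ⊥ := by
    intro hbot
    have h1 : wrel N ψ 1 ∈ S := Submodule.subset_span ⟨1, rfl⟩
    rw [hbot, Submodule.mem_bot] at h1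
    unfold wrel at h1
    rw [mul_div_assoc, div_self hχ1, mul_one] at h1
    exact (cN_pos N 1).ne' (by exact_mod_cast h1)
  have hS' : S.FG := Submodule.fg_span (Set.finite_range _)
  refine isIntegral_of_smul_mem_submodule S hS hS' (wrel N ψ h) ?_
  intro n hn
  induction hn using Submodule.span_induction with
  | mem x hx =>
    obtain ⟨g, rfl⟩ := hx
    rw [smul_eq_mul, ← omega_orbInd N hcl, ← omega_orbInd N hcl,
      ← omega_conv_rel N hψ hres _ (orbInd_NInv N g),
      omega_eq_sum_orbits N hcl ((orbInd_NInv N h).conv (orbInd_NInv N g))]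
    refine Submodule.sum_mem _ fun C _ => ?_
    obtain ⟨k, hk⟩ := conv_orbInd_nat N h g (Quotient.out C)
    rw [hk]
    have : (k : ℂ) * wrel N ψ (Quotient.out C) = (k : ℤ) • wrel N ψ (Quotient.out C) := by
      simp
    rw [this]
    exact S.smul_mem _ (Submodule.subset_span ⟨_, rfl⟩)
  | zero => simp
  | add x y _ _ hx hy => rw [smul_add]; exact S.add_mem hx hy
  | smul a x _ hx => rw [smul_comm]; exact S.smul_mem _ hx

variable (M : Ideal AlgInt) [hMm : M.IsMaximal]

theorem omega_mem_rel [Fintype N] {ψ : G → ℂ} (hψ : IsCharacter G ψ)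
    (hres : IsIrrCharacter N (fun n : N => ψ n)) {a : G → ℂ} (ha : NInv N a)
    (haR : ∀ g, MemLocalRing M (a g)) : MemLocalRing M (omega ψ a) := by
  classical
  haveI : Fintype (MulAction.orbitRel.Quotient (cjGrp N) G) := Fintype.ofFinite _
  rw [omega_eq_sum_orbits N (Helper74.IsCharacter.isClassFunction hψ) ha]
  exact MemLocalRing.sum hMm.isPrime _ _ fun C _ =>
    MemLocalRing.mul hMm.isPrime (haR _)
      (memLocalRing_of_isIntegral hMm.isPrime (isIntegral_wrel N hψ hres _))

theorem sum_mem_loc {a : G → ℂ} (haR : ∀ g, MemLocalRing M (a g)) :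
    MemLocalRing M (∑ g, a g) := MemLocalRing.sum hMm.isPrime _ _ fun g _ => haR g

theorem conv_mem_loc {a b : G → ℂ} (haR : ∀ g, MemLocalRing M (a g))
    (hbR : ∀ g, MemLocalRing M (b g)) (g : G) : MemLocalRing M (conv a b g) :=
  MemLocalRing.sum hMm.isPrime _ _ fun x _ => MemLocalRing.mul hMm.isPrime (haR _) (hbR _)

/-- the basic congruence for functions supported on `N` -/
theorem omega_sub_sum_mem_of_supp_one [Fintype N] {ψ : G → ℂ}
    (hres : IsIrrCharacter N (fun n : N => ψ n))
    (hpr : SameBlock M (fun _ : N => (1 : ℂ)) (fun n : N => ψ n)) {a : G → ℂ} (ha : NInv N a)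
    (haR : ∀ g, MemLocalRing M (a g)) (hs : SuppCoset N 1 a) :
    MemLocalIdeal M (omega ψ a - ∑ g, a g) := by
  classical
  haveI : Fintype (ConjClasses N) := Fintype.ofFinite _
  have hoff : ∀ g, g ∉ N → a g = 0 := by
    intro g hg
    by_contra h0
    exact hg (by simpa using hs g h0)
  set a' : N → ℂ := fun n => a n with ha'
  have hcl' : IsClassFunction N a' := by
    intro g h
    exact ha h h.2 g
  have h1 : omega ψ a = omega (fun n : N => ψ n) a' := by
    unfold omega
    congr 1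
    exact (sum_coe_eq_sum_of_support N (fun g => a g * ψ g)
      (fun g hg => by simp only [hoff g hg, zero_mul])).symm
  have h2 : ∑ g, a g = omega (fun _ : N => (1 : ℂ)) a' := by
    unfold omega
    rw [div_one]
    simp only [mul_one]
    exact (sum_coe_eq_sum_of_support N a hoff).symm
  rw [h1, h2, omega_eq_sum_conjClasses (irr_isClassFunction ⟨_, hres⟩) hcl',
    omega_eq_sum_conjClasses (fun _ _ => rfl) hcl', ← Finset.sum_sub_distrib]
  refine MemLocalIdeal.sum hMm.isPrime _ _ fun C _ => ?_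
  rw [← mul_sub]
  refine MemLocalIdeal.mul_left hMm.isPrime (haR _) ?_
  have := MemLocalIdeal.neg (hpr (Quotient.out C))
  rwa [neg_sub] at this

/-- the coset `N x` carries an `N`-invariant function with unit total mass -/
def Good (x : G) : Prop :=
  ∃ u : G → ℂ, NInv N u ∧ (∀ g, MemLocalRing M (u g)) ∧ SuppCoset N x u ∧
    ¬ MemLocalIdeal M (∑ g, u g)

/-- `k` is the factor by which `ω_ψ` differs from the augmentation on the coset `N x` -/
def IsKappa (ψ : G → ℂ) (x : G) (k : FM M) : Prop :=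
  ∀ a : G → ℂ, NInv N a → (∀ g, MemLocalRing M (a g)) → SuppCoset N x a →
    redC M (omega ψ a) = k * redC M (∑ g, a g)

variable {N M}

theorem redC_sum_ne_zero {u : G → ℂ} (huR : ∀ g, MemLocalRing M (u g))
    (hu : ¬ MemLocalIdeal M (∑ g, u g)) : redC M (∑ g, u g) ≠ 0 := by
  rw [Ne, redC_eq_zero_iff (sum_mem_loc M huR)]
  exact hu

section main

variable [hN : N.Normal] [Fintype N] {ψ : G → ℂ} (hψ : IsCharacter G ψ)
  (hres : IsIrrCharacter N (fun n : N => ψ n))
  (hpr : SameBlock M (fun _ : N => (1 : ℂ)) (fun n : N => ψ n))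

include hψ hres hpr

theorem redC_omega_mul_of_inv {x : G} {a v : G → ℂ} (ha : NInv N a)
    (haR : ∀ g, MemLocalRing M (a g)) (has : SuppCoset N x a) (hv : NInv N v)
    (hvR : ∀ g, MemLocalRing M (v g)) (hvs : SuppCoset N x⁻¹ v) :
    redC M (omega ψ a) * redC M (omega ψ v) = redC M (∑ g, a g) * redC M (∑ g, v g) := by
  have hs : SuppCoset N 1 (conv a v) := by
    have := has.conv hvs
    rwa [mul_inv_cancel] at this
  have h1 := omega_sub_sum_mem_of_supp_one N M hres hpr (ha.conv hv) (conv_mem_loc M haR hvR) hs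
  rw [omega_conv_rel N hψ hres a hv, sum_conv] at h1
  rw [← redC_mul (omega_mem_rel N M hψ hres ha haR) (omega_mem_rel N M hψ hres hv hvR),
    ← redC_mul (sum_mem_loc M haR) (sum_mem_loc M hvR)]
  exact (redC_eq_iff (MemLocalRing.mul hMm.isPrime (omega_mem_rel N M hψ hres ha haR)
    (omega_mem_rel N M hψ hres hv hvR))
    (MemLocalRing.mul hMm.isPrime (sum_mem_loc M haR) (sum_mem_loc M hvR))).2 h1

theorem exists_isKappa {x : G} (hx : Good N M x) (hx' : Good N M x⁻¹) :
    ∃ k : FM M, k ≠ 0 ∧ IsKappa N M ψ x k := by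
  obtain ⟨u, hu, huR, hus, hu0⟩ := hx
  obtain ⟨v, hv, hvR, hvs, hv0⟩ := hx'
  have h0 := redC_omega_mul_of_inv hψ hres hpr hu huR hus hv hvR hvs
  have hne : redC M (omega ψ v) ≠ 0 := by
    intro h
    rw [h, mul_zero] at h0
    exact mul_ne_zero (redC_sum_ne_zero huR hu0) (redC_sum_ne_zero hvR hv0) h0.symm
  refine ⟨redC M (∑ g, v g) / redC M (omega ψ v),
    div_ne_zero (redC_sum_ne_zero hvR hv0) hne, ?_⟩
  intro a ha haR has
  have h1 := redC_omega_mul_of_inv hψ hres hpr ha haR has hv hvR hvs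
  field_simp
  rw [h1]
  ring

omit hψ hres hpr in
theorem IsKappa.unique {x : G} (hx : Good N M x) {k k' : FM M} (h : IsKappa N M ψ x k)
    (h' : IsKappa N M ψ x k') : k = k' := by
  obtain ⟨u, hu, huR, hus, hu0⟩ := hx
  have h1 := h u hu huR hus
  rw [h' u hu huR hus] at h1
  exact (mul_right_cancel₀ (redC_sum_ne_zero huR hu0) h1).symm

omit hpr in
theorem IsKappa.mul_eq {x y : G} (hx : Good N M x) (hy : Good N M y) {k l m : FM M}
    (hk : IsKappa N M ψ x k) (hl : IsKappa N M ψ y l) (hm : IsKappa N M ψ (x * y) m) :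
    m = k * l := by
  obtain ⟨u, hu, huR, hus, hu0⟩ := hx
  obtain ⟨v, hv, hvR, hvs, hv0⟩ := hy
  have h1 := hm (conv u v) (hu.conv hv) (conv_mem_loc M huR hvR) (hus.conv hvs)
  rw [omega_conv_rel N hψ hres u hv, sum_conv,
    redC_mul (omega_mem_rel N M hψ hres hu huR) (omega_mem_rel N M hψ hres hv hvR),
    redC_mul (sum_mem_loc M huR) (sum_mem_loc M hvR), hk u hu huR hus, hl v hv hvR hvs] at h1
  have h2 : (k * l) * (redC M (∑ g, u g) * redC M (∑ g, v g))
      = m * (redC M (∑ g, u g) * redC M (∑ g, v g)) := by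
    rw [← h1]; ring
  exact (mul_right_cancel₀
    (mul_ne_zero (redC_sum_ne_zero huR hu0) (redC_sum_ne_zero hvR hv0)) h2).symm

theorem isKappa_one_of_mem {x : G} (hx : x ∈ N) : IsKappa N M ψ x 1 := by
  intro a ha haR has
  have hs : SuppCoset N 1 a := by
    intro g hg
    have := N.mul_mem (has g hg) hx
    simpa using this
  rw [one_mul]
  exact (redC_eq_iff (omega_mem_rel N M hψ hres ha haR) (sum_mem_loc M haR)).2
    (omega_sub_sum_mem_of_supp_one N M hres hpr ha haR hs)

end main

end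

end Cfsg.Agent.Lib.Helper16
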