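import Mathlib
import Cfsg.Agent.Lib.Helper16.RelKappa
import Cfsg.Agent.S0901

/-!
# Good cosets, the Teichmüller lift, and the normalised extension
-/

set_option autoImplicit false

namespace Cfsg.Agent.Lib.Helper16

open Cfsg Cfsg.Agent.Lib.Helper78

noncomputable section

section good

variable {G : Type*} [Group G] [Fintype G] {N : Subgroup G}
variable {M : Ideal AlgInt} [hMm : M.IsMaximal]

theorem not_dvd_cN_of_centralizes (p : ℕ) [Fact p.Prime] (Q : Sylow p N) {c : G}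
    (hc : c ∈ Subgroup.centralizer (((Q : Subgroup N).map N.subtype : Subgroup G) : Set G)) :
    ¬ p ∣ cN N c := by
  have hinj : Function.Injective (ConjAct.toConjAct (G := G)).toMonoidHom :=
    (ConjAct.toConjAct (G := G)).injective
  let e : N ≃* cjGrp N := N.equivMapOfInjective _ hinj
  have hle : (Q : Subgroup N).map (e : N →* cjGrp N) ≤ MulAction.stabilizer (cjGrp N) c := by
    rintro _ ⟨q, hq, rfl⟩
    rw [MulAction.mem_stabilizer_iff]
    change (q : G) * c * (q : G)⁻¹ = c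
    have := (Subgroup.mem_centralizer_iff.1 hc) (q : G) ⟨q, hq, rfl⟩
    rw [this, mul_inv_cancel_right]
  have h1 := Subgroup.index_dvd_of_le hle
  rw [Subgroup.index_map_equiv, MulAction.index_stabilizer, ← Nat.card_coe_set_eq] at h1
  intro hp
  exact Q.not_dvd_index (hp.trans h1)

theorem good_of_centralizes {p : ℕ} [Fact p.Prime] [hN : N.Normal] (hM : IsPModular p M)
    (Q : Sylow p N) {c : G}
    (hc : c ∈ Subgroup.centralizer (((Q : Subgroup N).map N.subtype : Subgroup G) : Set G)) :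
    Good N M c := by
  refine ⟨orbInd N c, orbInd_NInv N c, ?_, orbInd_suppCoset N c, ?_⟩
  · intro g
    unfold orbInd
    split_ifs
    · exact memLocalRing_one hMm.isPrime
    · exact memLocalRing_zero hMm.isPrime
  · rw [sum_orbInd, memLocalIdeal_natCast_iff hM]
    exact not_dvd_cN_of_centralizes p Q hc

theorem Good.of_coset {c x : G} (h : Good N M c) (hx : x * c⁻¹ ∈ N) : Good N M x := by
  obtain ⟨u, hu, huR, hus, hu0⟩ := h
  refine ⟨u, hu, huR, ?_, hu0⟩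
  intro g hg
  have h1 := N.mul_mem (hus g hg) (N.inv_mem hx)
  have h2 : g * c⁻¹ * (x * c⁻¹)⁻¹ = g * x⁻¹ := by group
  rwa [h2] at h1

theorem good_of_cover {p : ℕ} [Fact p.Prime] [hN : N.Normal] (hM : IsPModular p M)
    (Q : Sylow p N)
    (hcov : N ⊔ Subgroup.centralizer (((Q : Subgroup N).map N.subtype : Subgroup G) : Set G) = ⊤)
    (x : G) : Good N M x := by
  have hx : x ∈ N ⊔ Subgroup.centralizer (((Q : Subgroup N).map N.subtype : Subgroup G) : Set G) :=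
    hcov ▸ Subgroup.mem_top x
  obtain ⟨n, hn, c, hc, rfl⟩ := Subgroup.mem_sup_of_normal_left.1 hx
  exact (good_of_centralizes hM Q hc).of_coset (by simpa using hn)

end good

section teich

variable {M : Ideal AlgInt} [hMm : M.IsMaximal]

/-- a complex root of unity of order prime to `p` -/
def IsPPrimeRoot (p : ℕ) (ε : ℂ) : Prop := ∃ m : ℕ, ¬ p ∣ m ∧ ε ^ m = 1

theorem IsPPrimeRoot.isIntegral {p : ℕ} {ε : ℂ} (h : IsPPrimeRoot p ε) : IsIntegral ℤ ε := by
  obtain ⟨m, hm, h1⟩ := h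
  have hm0 : 0 < m := Nat.pos_of_ne_zero (by rintro rfl; exact hm (dvd_zero p))
  exact IsIntegral.of_pow hm0 (h1 ▸ isIntegral_one)

theorem IsPPrimeRoot.mul {p : ℕ} (hp : p.Prime) {ε δ : ℂ} (h : IsPPrimeRoot p ε)
    (h' : IsPPrimeRoot p δ) : IsPPrimeRoot p (ε * δ) := by
  obtain ⟨m, hm, h1⟩ := h
  obtain ⟨n, hn, h2⟩ := h'
  refine ⟨m * n, hp.not_dvd_mul hm hn, ?_⟩
  rw [mul_pow, pow_mul, h1, one_pow, mul_comm m n, pow_mul, h2, one_pow, one_mul]

theorem IsPPrimeRoot.inv {p : ℕ} {ε : ℂ} (h : IsPPrimeRoot p ε) : IsPPrimeRoot p ε⁻¹ := by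
  obtain ⟨m, hm, h1⟩ := h
  exact ⟨m, hm, by rw [inv_pow, h1, inv_one]⟩

theorem IsPPrimeRoot.ne_zero {p : ℕ} {ε : ℂ} (h : IsPPrimeRoot p ε) : ε ≠ 0 := by
  obtain ⟨m, hm, h1⟩ := h
  rintro rfl
  have hm0 : m ≠ 0 := by rintro rfl; exact hm (dvd_zero p)
  rw [zero_pow hm0] at h1
  exact zero_ne_one h1

theorem isPPrimeRoot_one (p : ℕ) (hp : p.Prime) : IsPPrimeRoot p 1 :=
  ⟨1, fun h => hp.one_lt.ne' (Nat.dvd_one.1 h), one_pow 1⟩

theorem IsPPrimeRoot.mem {p : ℕ} {ε : ℂ} (h : IsPPrimeRoot p ε) : MemLocalRing M ε :=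
  memLocalRing_of_isIntegral hMm.isPrime h.isIntegral

theorem IsPPrimeRoot.eq_of_redC_eq {p : ℕ} [Fact p.Prime] (hM : IsPModular p M) {ε δ : ℂ}
    (h : IsPPrimeRoot p ε) (h' : IsPPrimeRoot p δ) (hr : redC M ε = redC M δ) : ε = δ := by
  have h1 := (redC_eq_iff h.mem h'.mem).1 hr
  have h2 : (⟨ε, h.isIntegral⟩ : AlgInt) - ⟨δ, h'.isIntegral⟩ ∈ M :=
    (memLocalIdeal_algInt_iff hMm.isPrime _).1 (by simpa using h1)
  have := (Cfsg.Agent.S0901.result p M hM).1 ⟨ε, h.isIntegral⟩ ⟨δ, h'.isIntegral⟩ h h' h2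
  exact congrArg Subtype.val this

theorem exists_isPPrimeRoot_algInt {p : ℕ} [Fact p.Prime] (hM : IsPModular p M) {a : AlgInt}
    (ha : a ∉ M) : ∃ ε : ℂ, IsPPrimeRoot p ε ∧ redC M ε = redC M (a : ℂ) := by
  obtain ⟨ε, hε, h⟩ := (Cfsg.Agent.S0901.result p M hM).2 a ha
  refine ⟨ε, hε, ?_⟩
  have hε' : IsPPrimeRoot p (ε : ℂ) := hε
  refine ((redC_eq_iff (memLocalRing_algInt hMm.isPrime a) hε'.mem).2 ?_).symm
  have := memLocalIdeal_of_mem hMm.isPrime h
  simpa using this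

theorem redC_inv {x : ℂ} (hx : MemLocalRing M x) (hx' : ¬ MemLocalIdeal M x) :
    redC M x⁻¹ = (redC M x)⁻¹ := by
  have h0 : x ≠ 0 := ne_zero_of_not_memLocalIdeal hMm.isPrime hx'
  have h1 : redC M x * redC M x⁻¹ = 1 := by
    rw [← redC_mul hx (MemLocalRing.inv hMm.isPrime hx hx'), mul_inv_cancel₀ h0]
    have := redC_natCast (M := M) 1
    simpa using this
  exact eq_inv_of_mul_eq_one_right h1

theorem exists_isPPrimeRoot {p : ℕ} [Fact p.Prime] (hM : IsPModular p M) {k : FM M}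
    (hk : k ≠ 0) : ∃ ε : ℂ, IsPPrimeRoot p ε ∧ redC M ε = k := by
  obtain ⟨z, ⟨a, b, hb, rfl⟩, rfl⟩ := redC_surjective k
  have hloc : MemLocalRing M ((a : ℂ) / (b : ℂ)) := ⟨a, b, hb, rfl⟩
  have ha : a ∉ M := by
    intro ha
    exact hk ((redC_eq_zero_iff hloc).2 ((memLocalIdeal_div_iff hMm.isPrime a b hb).2 ha))
  obtain ⟨ε, hε, h1⟩ := exists_isPPrimeRoot_algInt hM ha
  obtain ⟨δ, hδ, h2⟩ := exists_isPPrimeRoot_algInt hM hb
  have hb' : ¬ MemLocalIdeal M (b : ℂ) := fun h => hb ((memLocalIdeal_algInt_iff hMm.isPrime b).1 h)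
  have hδ' : ¬ MemLocalIdeal M δ := by
    intro h
    apply hb'
    rw [← redC_eq_zero_iff (memLocalRing_algInt hMm.isPrime b), ← h2, redC_eq_zero_iff hδ.mem]
    exact h
  refine ⟨ε * δ⁻¹, hε.mul (Fact.out) hδ.inv, ?_⟩
  rw [redC_mul hε.mem hδ.inv.mem, redC_inv hδ.mem hδ', h1, h2, div_eq_mul_inv,
    redC_mul (memLocalRing_algInt hMm.isPrime a)
      (MemLocalRing.inv hMm.isPrime (memLocalRing_algInt hMm.isPrime b) hb'),
    redC_inv (memLocalRing_algInt hMm.isPrime b) hb']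

/-- the Teichmüller lift -/
def teich {p : ℕ} [Fact p.Prime] (hM : IsPModular p M) : (FM M)ˣ →* ℂˣ :=
  MonoidHom.mk' (fun k => Units.mk0 (exists_isPPrimeRoot hM k.ne_zero).choose
    (exists_isPPrimeRoot hM k.ne_zero).choose_spec.1.ne_zero) (by
    intro k l
    apply Units.ext
    simp only [Units.val_mk0, Units.val_mul]
    have hk := (exists_isPPrimeRoot hM k.ne_zero).choose_spec
    have hl := (exists_isPPrimeRoot hM l.ne_zero).choose_spec
    have hkl := (exists_isPPrimeRoot hM (k * l).ne_zero).choose_spec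
    refine hkl.1.eq_of_redC_eq hM (hk.1.mul Fact.out hl.1) ?_
    rw [hkl.2, redC_mul hk.1.mem hl.1.mem, hk.2, hl.2, Units.val_mul])

theorem teich_isPPrimeRoot {p : ℕ} [Fact p.Prime] (hM : IsPModular p M) (k : (FM M)ˣ) :
    IsPPrimeRoot p (teich hM k : ℂ) := (exists_isPPrimeRoot hM k.ne_zero).choose_spec.1

theorem redC_teich {p : ℕ} [Fact p.Prime] (hM : IsPModular p M) (k : (FM M)ˣ) :
    redC M (teich hM k : ℂ) = k := (exists_isPPrimeRoot hM k.ne_zero).choose_spec.2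

end teich

end

end Cfsg.Agent.Lib.Helper16
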