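import Mathlib
import Cfsg.Agent.Lib.Helper16.RelLift
import Cfsg.Agent.Lib.Helper15.RelGl1
import Cfsg.Agent.Lib.Helper76.CoverP

/-!
# The normalised extension of a principal block character
-/

set_option autoImplicit false

namespace Cfsg.Agent.Lib.Helper16

open Cfsg Cfsg.Agent.Lib.Helper78

noncomputable section

variable {G : Type*} [Group G] [Fintype G] {N : Subgroup G}
variable {M : Ideal AlgInt} [hMm : M.IsMaximal]

/-- twisting by a linear character which is trivial on `N` -/
theorem IsKappa.twist {ψ : G → ℂ} {x : G} {k : FM M} (h : IsKappa N M ψ x k) (l : G →* ℂˣ)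
    (hlN : ∀ n ∈ N, l n = 1) (hlR : MemLocalRing M (l x : ℂ))
    (hmem : ∀ a : G → ℂ, NInv N a → (∀ g, MemLocalRing M (a g)) → MemLocalRing M (omega ψ a)) :
    IsKappa N M (fun g => (l g : ℂ) * ψ g) x (redC M (l x : ℂ) * k) := by
  intro a ha haR has
  have h1 : omega (fun g => (l g : ℂ) * ψ g) a = (l x : ℂ) * omega ψ a := by
    unfold omega
    simp only
    rw [map_one, Units.val_one, one_mul, ← mul_div_assoc, Finset.mul_sum]
    congr 1
    refine Finset.sum_congr rfl fun g _ => ?_
    by_cases hg : a g = 0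
    · simp [hg]
    · have h2 : l g = l x := by
        have := hlN _ (has g hg)
        rw [map_mul, map_inv, mul_inv_eq_one] at this
        exact this
      rw [h2]; ring
  rw [h1, redC_mul hlR (hmem a ha haR), h a ha haR has, mul_assoc]

/-- if all `κ` are trivial, then `ω_χ` is congruent to the augmentation on all `N`-invariant
functions -/
theorem omega_sub_sum_mem_of_kappa_one [hN : N.Normal] [Fintype N] {χ : G → ℂ}
    (hχ : IsCharacter G χ) (hres : IsIrrCharacter N (fun n : N => χ n))
    (h1 : ∀ x, IsKappa N M χ x 1) {a : G → ℂ} (ha : NInv N a)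
    (haR : ∀ g, MemLocalRing M (a g)) : MemLocalIdeal M (omega χ a - ∑ g, a g) := by
  classical
  haveI : Fintype (MulAction.orbitRel.Quotient (cjGrp N) G) := Fintype.ofFinite _
  have hcl := Helper74.IsCharacter.isClassFunction hχ
  rw [omega_eq_sum_orbits N hcl ha, sum_NInv N ha, ← Finset.sum_sub_distrib]
  refine MemLocalIdeal.sum hMm.isPrime _ _ fun ω _ => ?_
  have h2 : a ω.out * wrel N χ ω.out - (cN N ω.out : ℂ) * a ω.out
      = a ω.out * (wrel N χ ω.out - (cN N ω.out : ℂ)) := by ring
  rw [h2]
  refine MemLocalIdeal.mul_left hMm.isPrime (haR _) ?_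
  have hloc : ∀ g, MemLocalRing M (orbInd N ω.out g) := by
    intro g
    unfold orbInd
    split_ifs
    · exact memLocalRing_one hMm.isPrime
    · exact memLocalRing_zero hMm.isPrime
  have h3 := h1 ω.out (orbInd N ω.out) (orbInd_NInv N _) hloc (orbInd_suppCoset N _)
  rw [one_mul, redC_eq_iff (omega_mem_rel N M hχ hres (orbInd_NInv N _) hloc)
    (sum_mem_loc M hloc), omega_orbInd N hcl, sum_orbInd] at h3
  exact h3

/-- consequently `χ` restricts into the principal block of every intermediate subgroup -/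
theorem sameBlock_of_kappa_one [hN : N.Normal] [Fintype N] {χ : G → ℂ}
    (hχ : IsCharacter G χ) (hres : IsIrrCharacter N (fun n : N => χ n))
    (h1 : ∀ x, IsKappa N M χ x 1) (J : Subgroup G) (hNJ : N ≤ J) :
    SameBlock M (fun _ : J => (1 : ℂ)) (fun y : J => χ y) := by
  classical
  haveI : Fintype J := Fintype.ofFinite _
  intro y
  set a : G → ℂ := fun g => if h : g ∈ J then classInd y ⟨g, h⟩ else 0 with ha
  have haJ : ∀ u : J, a u = classInd y u := fun u => by simp [ha]
  have hoff : ∀ g, g ∉ J → a g = 0 := fun g hg => by simp [ha, hg]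
  have hinv : NInv N a := by
    intro n hn g
    by_cases hg : g ∈ J
    · have hg' : n * g * n⁻¹ ∈ J := J.mul_mem (J.mul_mem (hNJ hn) hg) (J.inv_mem (hNJ hn))
      have e1 : a (n * g * n⁻¹) = classInd y ⟨n * g * n⁻¹, hg'⟩ := haJ ⟨_, hg'⟩
      have e2 : a g = classInd y ⟨g, hg⟩ := haJ ⟨_, hg⟩
      rw [e1, e2]
      exact classInd_isClassFunction y ⟨g, hg⟩ ⟨n, hNJ hn⟩
    · have hg' : n * g * n⁻¹ ∉ J := by
        intro h
        apply hg
        have := J.mul_mem (J.mul_mem (J.inv_mem (hNJ hn)) h) (hNJ hn)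
        simpa [mul_assoc] using this
      rw [hoff _ hg, hoff _ hg']
  have hloc : ∀ g, MemLocalRing M (a g) := by
    intro g
    by_cases hg : g ∈ J
    · rw [haJ ⟨g, hg⟩]
      unfold classInd
      split_ifs
      · exact memLocalRing_one hMm.isPrime
      · exact memLocalRing_zero hMm.isPrime
    · rw [hoff _ hg]
      exact memLocalRing_zero hMm.isPrime
  have hclJ : IsClassFunction J (fun y : J => χ y) := by
    intro g h
    exact Helper74.IsCharacter.isClassFunction hχ g h
  have e1 : centralChar (fun y : J => χ y) y = omega χ a := by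
    rw [← omega_classInd hclJ]
    unfold omega
    congr 1
    rw [← sum_coe_eq_sum_of_support J (fun g => a g * χ g)
      (fun g hg => by simp only [hoff g hg, zero_mul])]
    refine Finset.sum_congr rfl fun u _ => ?_
    rw [haJ]
  have e2 : centralChar (fun _ : J => (1 : ℂ)) y = ∑ g, a g := by
    rw [← omega_classInd (fun _ _ => rfl)]
    unfold omega
    rw [div_one, ← sum_coe_eq_sum_of_support J a hoff]
    refine Finset.sum_congr rfl fun u _ => ?_
    rw [haJ, mul_one]
  rw [e1, e2]
  have := MemLocalIdeal.neg (omega_sub_sum_mem_of_kappa_one hχ hres h1 hinv hloc)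
  rwa [neg_sub] at this

theorem sameBlock_top_of_kappa_one [hN : N.Normal] [Fintype N] {χ : G → ℂ}
    (hχ : IsCharacter G χ) (hres : IsIrrCharacter N (fun n : N => χ n))
    (h1 : ∀ x, IsKappa N M χ x 1) : SameBlock M (fun _ : G => (1 : ℂ)) χ := by
  classical
  intro y
  have hloc : ∀ g, MemLocalRing M (classInd y g) := by
    intro g
    unfold classInd
    split_ifs
    · exact memLocalRing_one hMm.isPrime
    · exact memLocalRing_zero hMm.isPrime
  have e1 : centralChar χ y = omega χ (classInd y) :=
    (omega_classInd (Helper74.IsCharacter.isClassFunction hχ) y).symm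
  have e2 : centralChar (fun _ : G => (1 : ℂ)) y = ∑ g, classInd y g := by
    rw [← omega_classInd (fun _ _ => rfl)]
    unfold omega
    simp
  rw [e1, e2]
  have := MemLocalIdeal.neg (omega_sub_sum_mem_of_kappa_one hχ hres h1
    (NInv.of_isClassFunction N (classInd_isClassFunction y)) hloc)
  rwa [neg_sub] at this

section kappa

variable [hN : N.Normal] [Fintype N] {ψ : G → ℂ} (hψ : IsCharacter G ψ)
  (hres : IsIrrCharacter N (fun n : N => ψ n))
  (hpr : SameBlock M (fun _ : N => (1 : ℂ)) (fun n : N => ψ n))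
  (hgood : ∀ x, Good N M x)

/-- the homomorphism `κ` -/
def kappaHom : G →* (FM M)ˣ :=
  MonoidHom.mk' (fun x => Units.mk0 (exists_isKappa hψ hres hpr (hgood x) (hgood x⁻¹)).choose
    (exists_isKappa hψ hres hpr (hgood x) (hgood x⁻¹)).choose_spec.1) (by
    intro x y
    apply Units.ext
    simp only [Units.val_mk0, Units.val_mul]
    exact IsKappa.mul_eq hψ hres (hgood x) (hgood y)
      (exists_isKappa hψ hres hpr (hgood x) (hgood x⁻¹)).choose_spec.2
      (exists_isKappa hψ hres hpr (hgood y) (hgood y⁻¹)).choose_spec.2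
      (exists_isKappa hψ hres hpr (hgood (x * y)) (hgood (x * y)⁻¹)).choose_spec.2)

theorem isKappa_kappaHom (x : G) :
    IsKappa N M ψ x (kappaHom hψ hres hpr hgood x : FM M) :=
  (exists_isKappa hψ hres hpr (hgood x) (hgood x⁻¹)).choose_spec.2

theorem kappaHom_eq_one_of_mem {x : G} (hx : x ∈ N) : kappaHom hψ hres hpr hgood x = 1 := by
  apply Units.ext
  exact IsKappa.unique (hgood x) (isKappa_kappaHom hψ hres hpr hgood x)
    (isKappa_one_of_mem hψ hres hpr hx)

include hψ hres hpr hgood in
/-- **The normalised extension.** -/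
theorem exists_normalised {p : ℕ} [Fact p.Prime] (hM : IsPModular p M) :
    ∃ l : G →* ℂˣ, (∀ n ∈ N, l n = 1) ∧ (∀ g, IsPPrimeRoot p (l g : ℂ)) ∧
      ∀ x, IsKappa N M (fun g => (l g : ℂ) * ψ g) x 1 := by
  refine ⟨(teich hM).comp (kappaHom hψ hres hpr hgood)⁻¹, ?_, ?_, ?_⟩
  · intro n hn
    simp [kappaHom_eq_one_of_mem hψ hres hpr hgood hn]
  · intro g
    exact teich_isPPrimeRoot hM _
  · intro x
    have h := (isKappa_kappaHom hψ hres hpr hgood x).twist
      ((teich hM).comp (kappaHom hψ hres hpr hgood)⁻¹)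
      (by
        intro n hn
        simp [kappaHom_eq_one_of_mem hψ hres hpr hgood hn])
      (teich_isPPrimeRoot hM _).mem
      (fun a ha haR => omega_mem_rel N M hψ hres ha haR)
    have h2 : redC M (((teich hM).comp (kappaHom hψ hres hpr hgood)⁻¹ x : ℂˣ) : ℂ)
        * (kappaHom hψ hres hpr hgood x : FM M) = 1 := by
      rw [MonoidHom.comp_apply, redC_teich]
      simp
    rwa [h2] at h

end kappa

end

end Cfsg.Agent.Lib.Helper16
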