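import Mathlib
import Cfsg.Agent.Lib.Helper16.DefectAPI

/-!
# Sylow-type lemmas on classes with a given defect group (helper16)
-/

set_option autoImplicit false

namespace Cfsg.Agent.Lib.Helper16

open Cfsg

variable {G : Type*} [Group G] [Finite G] {p : ℕ} [Fact p.Prime]

/-- two subgroups of `K` of full `p`-power order are conjugate in `K` -/
theorem exists_conj_of_card_eq (K D₁ D₂ : Subgroup G) (h1 : D₁ ≤ K) (h2 : D₂ ≤ K)
    (c1 : Nat.card D₁ = p ^ (Nat.card K).factorization p)
    (c2 : Nat.card D₂ = p ^ (Nat.card K).factorization p) :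
    ∃ u ∈ K, cj u D₁ = D₂ := by
  obtain ⟨P1, rfl⟩ := (sylow_image_iff K D₁).2 ⟨h1, c1⟩
  obtain ⟨P2, rfl⟩ := (sylow_image_iff K D₂).2 ⟨h2, c2⟩
  obtain ⟨u, hu⟩ := MulAction.exists_smul_eq K P1 P2
  refine ⟨u, u.2, ?_⟩
  rw [← hu]
  ext x
  constructor
  · rintro ⟨_, ⟨y, hy, rfl⟩, rfl⟩
    refine ⟨u * y * u⁻¹, ?_, by simp⟩
    rw [SetLike.mem_coe, Sylow.coe_subgroup_smul]
    exact ⟨y, hy, by simp⟩
  · rintro ⟨y, hy, rfl⟩
    rw [SetLike.mem_coe, Sylow.coe_subgroup_smul] at hy
    obtain ⟨w, hw, rfl⟩ := hy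
    exact ⟨w, ⟨w, hw, rfl⟩, by simp⟩

theorem mem_normalizer_of_cj_eq {D : Subgroup G} {n : G} (h : cj n D = D) :
    n ∈ Subgroup.normalizer (D : Set G) :=
  Subgroup.mem_normalizer_iff_map_conj_eq.2 h

theorem cj_eq_of_mem_normalizer {D : Subgroup G} {n : G}
    (h : n ∈ Subgroup.normalizer (D : Set G)) : cj n D = D :=
  Subgroup.mem_normalizer_iff_map_conj_eq.1 h

/-- If `D` is a Sylow `p`-subgroup of `C(g)` and `c ∈ C(D)` is conjugate to `g`, then `c` is
conjugate to `g` under `N(D)`. -/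
theorem exists_normalizer_conj {D : Subgroup G} {g c : G}
    (hle : D ≤ Subgroup.centralizer ({g} : Set G))
    (hcard : Nat.card D = p ^ (Nat.card (Subgroup.centralizer ({g} : Set G))).factorization p)
    (hc : IsConj g c) (hcD : c ∈ Subgroup.centralizer (D : Set G)) :
    ∃ n ∈ Subgroup.normalizer (D : Set G), n * c * n⁻¹ = g := by
  cases nonempty_fintype G
  obtain ⟨a, rfl⟩ := isConj_iff.1 hc
  have h1 : cj a⁻¹ D ≤ Subgroup.centralizer ({g} : Set G) := by
    have h2 : D ≤ Subgroup.centralizer ({a * g * a⁻¹} : Set G) :=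
      (le_centralizer_singleton_iff _ _).2 hcD
    rw [centralizer_conj, le_cj_iff] at h2
    exact h2
  obtain ⟨u, hu, hu2⟩ := exists_conj_of_card_eq _ _ _ h1 hle (by rw [card_cj, hcard]) hcard
  rw [cj_cj] at hu2
  refine ⟨u * a⁻¹, mem_normalizer_of_cj_eq hu2, ?_⟩
  rw [Subgroup.mem_centralizer_singleton_iff] at hu
  calc u * a⁻¹ * (a * g * a⁻¹) * (u * a⁻¹)⁻¹ = u * g * u⁻¹ := by group
    _ = g := by rw [hu]; group

/-- If `D` is a Sylow `p`-subgroup of `C(c) ∩ N(D)` then it is a Sylow `p`-subgroup of `C(c)`. -/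
theorem card_eq_of_card_inf_normalizer {D : Subgroup G} (hD : IsPGroup p D) {c : G}
    (hcD : c ∈ Subgroup.centralizer (D : Set G))
    (hcard : Nat.card D = p ^ (Nat.card (Subgroup.centralizer ({c} : Set G) ⊓
      Subgroup.normalizer (D : Set G) : Subgroup G)).factorization p) :
    Nat.card D = p ^ (Nat.card (Subgroup.centralizer ({c} : Set G))).factorization p := by
  cases nonempty_fintype G
  have hp : p.Prime := Fact.out
  set K := Subgroup.centralizer ({c} : Set G) with hK
  have hDK : D ≤ K := (le_centralizer_singleton_iff _ _).2 hcD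
  obtain ⟨S, hS⟩ := (hD.comap_subtype (K := K)).exists_le_sylow
  set S' : Subgroup G := (S : Subgroup K).map K.subtype with hS'
  have hS'K : S' ≤ K := by
    rintro _ ⟨x, _, rfl⟩; exact x.2
  have hS'card : Nat.card S' = p ^ (Nat.card K).factorization p := by
    rw [hS', Subgroup.card_map_of_injective K.subtype_injective]
    exact S.card_eq_multiplicity
  have hS'p : IsPGroup p S' := S.isPGroup'.map _
  have hDS' : D ≤ S' := by
    intro d hd
    exact ⟨⟨d, hDK hd⟩, hS (by simpa [Subgroup.mem_subgroupOf] using hd), rfl⟩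
  -- `T = S' ⊓ N(D)` equals `D`
  set T : Subgroup G := S' ⊓ Subgroup.normalizer (D : Set G) with hT
  have hDT : D ≤ T := le_inf hDS' Subgroup.le_normalizer
  have hTp : IsPGroup p T := hS'p.to_le inf_le_left
  have hTle : T ≤ K ⊓ Subgroup.normalizer (D : Set G) := inf_le_inf_right _ hS'K
  have hTcard : Nat.card T ≤ Nat.card D := by
    obtain ⟨m, hm⟩ := hTp.exists_card_eq
    have hdvd := Subgroup.card_dvd_of_le hTle
    rw [hm] at hdvd
    have := (hp.pow_dvd_iff_le_factorization Nat.card_pos.ne').1 hdvd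
    rw [hm, hcard]
    exact Nat.pow_le_pow_right hp.pos this
  have hTD : D = T := Subgroup.eq_of_le_of_card_ge hDT hTcard
  -- normalizer condition in `S'`
  haveI : Group.IsNilpotent S' := hS'p.isNilpotent
  have hnc : NormalizerCondition S' := normalizerCondition_of_isNilpotent
  have htop : D.subgroupOf S' = ⊤ := by
    by_contra hne
    have hlt := hnc (D.subgroupOf S') (lt_top_iff_ne_top.2 hne)
    obtain ⟨x, hx, hxD⟩ := SetLike.exists_of_lt hlt
    apply hxD
    have hxN : (x : G) ∈ Subgroup.normalizer (D : Set G) := by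
      rw [Subgroup.mem_normalizer_iff]
      intro d
      rw [Subgroup.mem_normalizer_iff] at hx
      constructor
      · intro hd
        have := (hx ⟨d, hDS' hd⟩).1 (by simpa [Subgroup.mem_subgroupOf] using hd)
        simpa [Subgroup.mem_subgroupOf] using this
      · intro hd
        have hdS : d ∈ S' := by
          have h1 := hDS' hd
          have h2 : d = (x : G)⁻¹ * ((x : G) * d * (x : G)⁻¹) * (x : G) := by group
          rw [h2]
          exact S'.mul_mem (S'.mul_mem (S'.inv_mem x.2) h1) x.2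
        have := (hx ⟨d, hdS⟩).2 (by simpa [Subgroup.mem_subgroupOf] using hd)
        simpa [Subgroup.mem_subgroupOf] using this
    have : (x : G) ∈ T := ⟨x.2, hxN⟩
    rw [← hTD] at this
    simpa [Subgroup.mem_subgroupOf] using this
  have hS'D : S' ≤ D := by
    intro s hs
    have : (⟨s, hs⟩ : S') ∈ D.subgroupOf S' := by rw [htop]; trivial
    simpa [Subgroup.mem_subgroupOf] using this
  rw [le_antisymm hDS' hS'D, hS'card]

end Cfsg.Agent.Lib.Helper16
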