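import Mathlib
import Cfsg.Agent.Lib.Helper16.SylowConj
import Cfsg.Agent.Lib.Helper16.Induced
import Cfsg.Agent.Lib.Helper16.BlockIdem
import Cfsg.Agent.Lib.Helper16.BlockBasic
import Cfsg.Agent.Lib.Helper78.DefectCard
import Cfsg.Agent.S0912
import Cfsg.Agent.S0917

/-!
# Towards Brauer's first main theorem (helper16)
-/

set_option autoImplicit false

namespace Cfsg.Agent.Lib.Helper16

open Cfsg Cfsg.Agent.Lib.Helper78

section group

variable {G : Type*} [Group G]

theorem centralizer_subtype_eq (H : Subgroup G) (y : H) :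
    Subgroup.centralizer ({y} : Set H) =
      (Subgroup.centralizer ({(y : G)} : Set G)).subgroupOf H := by
  ext x
  rw [Subgroup.mem_subgroupOf, Subgroup.mem_centralizer_singleton_iff,
    Subgroup.mem_centralizer_singleton_iff]
  exact ⟨fun h => congrArg Subtype.val h, fun h => Subtype.ext h⟩

theorem card_centralizer_subtype (H : Subgroup G) (y : H) :
    Nat.card (Subgroup.centralizer ({y} : Set H)) =
      Nat.card (Subgroup.centralizer ({(y : G)} : Set G) ⊓ H : Subgroup G) := by
  rw [centralizer_subtype_eq, ← Subgroup.inf_subgroupOf_right]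
  exact Nat.card_congr (Subgroup.subgroupOfEquivOfLe inf_le_right).toEquiv

theorem card_subgroupOf_of_le {D H : Subgroup G} (h : D ≤ H) :
    Nat.card (D.subgroupOf H) = Nat.card D :=
  Nat.card_congr (Subgroup.subgroupOfEquivOfLe h).toEquiv

theorem card_le_of_isPGroup_le [Finite G] {p : ℕ} [Fact p.Prime] {Q K : Subgroup G}
    (hQ : IsPGroup p Q) (h : Q ≤ K) : Nat.card Q ≤ p ^ (Nat.card K).factorization p := by
  have hp : p.Prime := Fact.out
  obtain ⟨m, hm⟩ := hQ.exists_card_eq
  have hdvd := Subgroup.card_dvd_of_le h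
  rw [hm] at hdvd ⊢
  exact Nat.pow_le_pow_right hp.pos ((hp.pow_dvd_iff_le_factorization Nat.card_pos.ne').1 hdvd)

end group

section alg

variable {k G : Type*} [Field k] [Group G] [Finite G] (p : ℕ) [Fact p.Prime] [CharP k p]

/-- The Brauer homomorphism maps the class sum of a class with defect group `D` to a class sum
of the normalizer. -/
theorem brauerHom_classSumZ (D H : Subgroup G) (hD : IsPGroup p D)
    (hCH : Subgroup.centralizer (D : Set G) ≤ H) (hHN : H ≤ Subgroup.normalizer (D : Set G))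
    (hNH : Subgroup.normalizer (D : Set G) ≤ H) (y : H)
    (hy : (y : G) ∈ Subgroup.centralizer (D : Set G))
    (hcard : Nat.card D =
      p ^ (Nat.card (Subgroup.centralizer ({(y : G)} : Set G))).factorization p) :
    brauerHom p D H hD hCH hHN (classSumZ k (y : G)) = classSumZ k y := by
  classical
  cases nonempty_fintype G
  apply Subtype.ext
  rw [brauerHom_coeff]
  apply ext_coeff
  intro h
  simp only [brauerFun, ofFun_coeff]
  rw [classSumZ_coeff, classSumZ_coeff]
  by_cases hh : (h : G) ∈ Subgroup.centralizer (D : Set G)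
  · rw [if_pos hh]
    by_cases hc : IsConj (y : G) (h : G)
    · rw [if_pos hc]
      obtain ⟨n, hn, hn2⟩ := exists_normalizer_conj ((le_centralizer_singleton_iff _ _).2 hy)
        hcard hc hh
      rw [if_pos]
      refine IsConj.symm (isConj_iff.2 ⟨⟨n, hNH hn⟩, ?_⟩)
      exact Subtype.ext hn2
    · rw [if_neg hc, if_neg]
      intro hc'
      apply hc
      obtain ⟨n, hn⟩ := isConj_iff.1 hc'
      exact isConj_iff.2 ⟨n, congrArg Subtype.val hn⟩
  · rw [if_neg hh, if_neg]
    intro hc'
    apply hh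
    obtain ⟨n, hn⟩ := isConj_iff.1 hc'
    have := conj_mem_centralizer_of_mem_normalizer (hHN n.2) hy
    rw [← hn]
    exact this

end alg

section blocks

variable {G : Type*} [Group G] [Fintype G]
variable (M : Ideal AlgInt) [hMm : M.IsMaximal] (p : ℕ) [Fact p.Prime] [CharP (FM M) p]

theorem eB_mul_self (B : Set (IrrCharacter G)) (hB : IsPBlock M B) : eB M B * eB M B = eB M B := by
  apply Subtype.ext
  show redFun M (blockCoeff B) * redFun M (blockCoeff B) = redFun M (blockCoeff B)
  rw [← redFun_conv (memLocalRing_blockCoeff hMm.isPrime hB)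
    (memLocalRing_blockCoeff hMm.isPrime hB), conv_blockCoeff_self]

theorem eq_zero_of_idem_of_isNilpotent {R : Type*} [Ring R] {z : R} (h : z * z = z)
    (hn : IsNilpotent z) : z = 0 := by
  obtain ⟨n, hn⟩ := hn
  have : ∀ m : ℕ, z ^ (m + 1) = z := by
    intro m
    induction m with
    | zero => simp
    | succ m ih => rw [pow_succ, ih, h]
  cases n with
  | zero =>
    rw [pow_zero] at hn
    rw [← mul_one z, hn, mul_zero]
  | succ n => rw [← this n, hn]

variable (H : Subgroup G) [Fintype H]

/-- If `P` is contained in a defect group of `B` then `B` is induced from a block of `H`, where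
`P C(P) ≤ H ≤ N(P)`. -/
theorem exists_induced_of_le_defect (hM : IsPModular p M) {P : Subgroup G} (hP : IsPGroup p P)
    (hPH : P ≤ H) (hCH : Subgroup.centralizer (P : Set G) ≤ H)
    (hHN : H ≤ Subgroup.normalizer (P : Set G)) {B : Set (IrrCharacter G)} (hB : IsPBlock M B)
    {D : Subgroup G} (hD : IsDefectGroup p M B D) (hPD : P ≤ D) :
    ∃ b : Set (IrrCharacter H), IsInducedBlock M H b B := by
  classical
  obtain ⟨g, hg, hle, -⟩ := isDefectGroup_iff.1 hD
  have hgP : g ∈ Subgroup.centralizer (P : Set G) :=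
    (le_centralizer_singleton_iff _ _).1 (hPD.trans hle)
  set z := brauerHom p P H hP hCH hHN (eB M B) with hz
  have hzz : z * z = z := by rw [hz, ← map_mul, eB_mul_self M B hB]
  have hz0 : z ≠ 0 := by
    intro h0
    have h1 : z.1.coeff ⟨g, hCH hgP⟩ = 0 := by rw [h0]; rfl
    rw [hz, brauerHom_coeff] at h1
    simp only [brauerFun, ofFun_coeff] at h1
    rw [if_pos hgP] at h1
    exact (eB_coeff_ne_zero_iff M hB g).2 hg.2.1 h1
  have hex : ∃ ξ : IrrCharacter H, lam M ξ z ≠ 0 := by
    by_contra hcon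
    push Not at hcon
    exact hz0 (eq_zero_of_idem_of_isNilpotent hzz (isNilpotent_of_lam_eq_zero M hcon))
  obtain ⟨ξ, hξ⟩ := hex
  obtain ⟨χ, hχ⟩ := exists_lam_eq_lam_resZ M p hP hPH hCH hHN ξ
  have h2 : lam M χ (eB M B) ≠ 0 := by
    rw [← hχ, lam_resZ_eq_lam_brauerHom M p hP hPH hCH hHN]
    exact hξ
  have hχB : χ ∈ B := by
    by_contra hne
    rw [lam_eB M hB, if_neg hne] at h2
    exact h2 rfl
  exact ⟨blockOf M (ξ : H → ℂ), (isInducedBlock_iff M H ⟨ξ, rfl⟩ hB (mem_blockOf_self M ξ) hχB).2 hχ⟩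

omit [Fintype H] hMm [CharP (FM M) p] in
/-- every defect group of a block of `H`, `D ≤ H ≤ N(D)`, contains `D` -/
theorem subgroupOf_le_defect (hM : IsPModular p M) {D : Subgroup G} (hD : IsPGroup p D)
    (hDH : D ≤ H) (hHN : H ≤ Subgroup.normalizer (D : Set G)) {b : Set (IrrCharacter H)}
    (hb : IsPBlock M b) {Db : Subgroup H} (hDb : IsDefectGroup p M b Db) :
    D.subgroupOf H ≤ Db :=
  le_trans (Cfsg.Agent.Lib.Lead.le_pCore ((Subgroup.normal_subgroupOf_iff_le_normalizer hDH).2 hHN)
    hD.comap_subtype) (Cfsg.Agent.S0912.result p M hM b hb Db hDb)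

/-- central characters of a block `b` of `N(D)` and of `b^G` on a class with defect group `D` -/
theorem lam_classSumZ_of_induced {D : Subgroup G} (hD : IsPGroup p D)
    (hHN : H ≤ Subgroup.normalizer (D : Set G)) (hNH : Subgroup.normalizer (D : Set G) ≤ H)
    {ξ : IrrCharacter H} {χ : IrrCharacter G}
    (hind : ∀ z : Zc (FM M) G, lam M ξ (resZ H z) = lam M χ z) (y : H)
    (hy : (y : G) ∈ Subgroup.centralizer (D : Set G))
    (hcard : Nat.card D = p ^ (Nat.card (Subgroup.centralizer ({y} : Set H))).factorization p) :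
    Nat.card D = p ^ (Nat.card (Subgroup.centralizer ({(y : G)} : Set G))).factorization p ∧
    lam M ξ (classSumZ (FM M) y) = lam M χ (classSumZ (FM M) (y : G)) := by
  have hHeq : H = Subgroup.normalizer (D : Set G) := le_antisymm hHN hNH
  have hCH : Subgroup.centralizer (D : Set G) ≤ H :=
    (Subgroup.centralizer_le_normalizer _).trans hNH
  have hDH : D ≤ H := Subgroup.le_normalizer.trans hNH
  have hc : Nat.card D =
      p ^ (Nat.card (Subgroup.centralizer ({(y : G)} : Set G))).factorization p := by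
    apply card_eq_of_card_inf_normalizer hD hy
    rw [hcard, card_centralizer_subtype]
    have : (Subgroup.centralizer ({(y : G)} : Set G) ⊓ H : Subgroup G) =
        Subgroup.centralizer ({(y : G)} : Set G) ⊓ Subgroup.normalizer (D : Set G) :=
      congrArg (fun K => Subgroup.centralizer ({(y : G)} : Set G) ⊓ K) hHeq
    rw [this]
  refine ⟨hc, ?_⟩
  rw [← hind, lam_resZ_eq_lam_brauerHom M p hD hDH hCH hHN,
    brauerHom_classSumZ p D H hD hCH hHN hNH y hy hc]

/-- First main theorem, part 1: a block of `N(D)` with defect group `D` induces a block with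
defect group `D`. -/
theorem isDefectGroup_of_induced (hM : IsPModular p M) {D : Subgroup G} (hD : IsPGroup p D)
    (hHN : H ≤ Subgroup.normalizer (D : Set G)) (hNH : Subgroup.normalizer (D : Set G) ≤ H)
    {b : Set (IrrCharacter H)} {B : Set (IrrCharacter G)} (hind : IsInducedBlock M H b B)
    (hDb : IsDefectGroup p M b (D.subgroupOf H)) : IsDefectGroup p M B D := by
  classical
  have hDH : D ≤ H := Subgroup.le_normalizer.trans hNH
  obtain ⟨ξ, hξ⟩ := block_nonempty M hind.1
  obtain ⟨χ, hχ⟩ := block_nonempty M hind.2.1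
  have hind' := (isInducedBlock_iff M H hind.1 hind.2.1 hξ hχ).1 hind
  obtain ⟨y, hy, hle, hcard⟩ := isDefectGroup_iff.1 hDb
  have hyD : (y : G) ∈ Subgroup.centralizer (D : Set G) :=
    (mem_centralizer_subgroupOf_iff hDH y).1 ((le_centralizer_singleton_iff _ _).1 hle)
  rw [card_subgroupOf_of_le hDH] at hcard
  obtain ⟨hc, hl⟩ := lam_classSumZ_of_induced M p H hD hHN hNH hind' y hyD hcard
  have h1 : ¬ MemLocalIdeal M (centralChar (χ : G → ℂ) (y : G)) := by
    rw [← lam_classSumZ_ne_zero_iff, ← hl, lam_classSumZ_ne_zero_iff]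
    exact hy.2.2 ξ hξ
  obtain ⟨E, hE, hDE⟩ := Cfsg.Agent.S0917.result p M hM H b hind.1 B hind.2.1 hind _ hDb
  rw [Subgroup.map_subgroupOf_eq_of_le hDH] at hDE
  obtain ⟨x, hx⟩ := minmax_b hM hind.2.1 hE hχ h1
  have h2 : Nat.card E ≤ Nat.card D := by
    rw [hc, ← card_cj x E]
    exact card_le_of_isPGroup_le (isPGroup_cj (IsDefectGroup.isPGroup hE) x) hx
  rw [Subgroup.eq_of_le_of_card_ge hDE h2]
  exact hE

omit [CharP (FM M) p] [Fintype H] hMm in
/-- any block of `H` (`D ≤ H ≤ N(D)`) inducing a block with defect group `D` has defect group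
`D`. -/
theorem isDefectGroup_subgroupOf_of_induced (hM : IsPModular p M) {D : Subgroup G}
    (hDH : D ≤ H) (hHN : H ≤ Subgroup.normalizer (D : Set G))
    {b : Set (IrrCharacter H)} {B : Set (IrrCharacter G)} (hind : IsInducedBlock M H b B)
    (hDB : IsDefectGroup p M B D) : IsDefectGroup p M b (D.subgroupOf H) := by
  classical
  obtain ⟨Db, hDb⟩ := exists_isDefectGroup hM hind.1
  have h1 := subgroupOf_le_defect M p H hM (IsDefectGroup.isPGroup hDB) hDH hHN hind.1 hDb
  obtain ⟨E, hE, hDE⟩ := Cfsg.Agent.S0917.result p M hM H b hind.1 B hind.2.1 hind _ hDb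
  have h2 : Nat.card Db ≤ Nat.card (D.subgroupOf H) := by
    rw [card_subgroupOf_of_le hDH, card_of_isDefectGroup hM hind.2.1 hDB,
      ← card_of_isDefectGroup hM hind.2.1 hE,
      ← Subgroup.card_map_of_injective H.subtype_injective]
    exact Nat.card_le_card_of_injective _ (Subgroup.inclusion_injective hDE)
  rw [Subgroup.eq_of_le_of_card_ge h1 h2]
  exact hDb

/-- First main theorem, uniqueness. -/
theorem eq_of_induced_of_defect (hM : IsPModular p M) {D : Subgroup G} (hD : IsPGroup p D)
    (hHN : H ≤ Subgroup.normalizer (D : Set G)) (hNH : Subgroup.normalizer (D : Set G) ≤ H)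
    {b₁ b₂ : Set (IrrCharacter H)} {B : Set (IrrCharacter G)}
    (hind₁ : IsInducedBlock M H b₁ B) (hind₂ : IsInducedBlock M H b₂ B)
    (hDb : IsDefectGroup p M b₁ (D.subgroupOf H)) : b₁ = b₂ := by
  classical
  have hDH : D ≤ H := Subgroup.le_normalizer.trans hNH
  haveI hnorm : (D.subgroupOf H).Normal := (Subgroup.normal_subgroupOf_iff_le_normalizer hDH).2 hHN
  obtain ⟨ξ₁, hξ₁⟩ := block_nonempty M hind₁.1
  obtain ⟨ξ₂, hξ₂⟩ := block_nonempty M hind₂.1
  obtain ⟨χ, hχ⟩ := block_nonempty M hind₁.2.1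
  have hi₁ := (isInducedBlock_iff M H hind₁.1 hind₁.2.1 hξ₁ hχ).1 hind₁
  have hi₂ := (isInducedBlock_iff M H hind₂.1 hind₂.2.1 hξ₂ hχ).1 hind₂
  have key : ∀ y : H, (eB M b₁).1.coeff y • lam M ξ₂ (classSumZ (FM M) y) =
      (eB M b₁).1.coeff y • lam M ξ₁ (classSumZ (FM M) y) := by
    intro y
    by_cases h0 : (eB M b₁).1.coeff y = 0
    · rw [h0, zero_smul, zero_smul]
    by_cases hy : y ∈ Subgroup.centralizer ((D.subgroupOf H : Subgroup H) : Set H)
    · have hyD := (mem_centralizer_subgroupOf_iff hDH y).1 hy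
      have h1 : ¬ MemLocalIdeal M (blockCoeff b₁ y) := (eB_coeff_ne_zero_iff M hind₁.1 y).1 h0
      have hcard : Nat.card D =
          p ^ (Nat.card (Subgroup.centralizer ({y} : Set H))).factorization p := by
        apply le_antisymm
        · rw [← card_subgroupOf_of_le hDH]
          exact card_le_of_isPGroup_le hD.comap_subtype ((le_centralizer_singleton_iff _ _).2 hy)
        · obtain S : Sylow p (Subgroup.centralizer ({y} : Set H)) := default
          obtain ⟨hSle, hScard⟩ := (sylow_image_iff (Subgroup.centralizer ({y} : Set H))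
            ((S : Subgroup (Subgroup.centralizer ({y} : Set H))).map
              (Subgroup.centralizer ({y} : Set H)).subtype)).1 ⟨S, rfl⟩
          obtain ⟨x, hx⟩ := minmax_a hM hind₁.1 hDb h1 _ (S.isPGroup'.map _) hSle
          rw [← hScard, ← card_subgroupOf_of_le hDH, ← card_cj x (D.subgroupOf H)]
          exact Nat.card_le_card_of_injective _ (Subgroup.inclusion_injective hx)
      rw [(lam_classSumZ_of_induced M p H hD hHN hNH hi₁ y hyD hcard).2,
        (lam_classSumZ_of_induced M p H hD hHN hNH hi₂ y hyD hcard).2]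
    · have e1 : lam M ξ₁ (classSumZ (FM M) y) = 0 := by
        by_contra hne
        exact hy (mem_centralizer_of_lam_classSumZ_ne_zero M p (D.subgroupOf H)
          hD.comap_subtype ξ₁ y hne)
      have e2 : lam M ξ₂ (classSumZ (FM M) y) = 0 := by
        by_contra hne
        exact hy (mem_centralizer_of_lam_classSumZ_ne_zero M p (D.subgroupOf H)
          hD.comap_subtype ξ₂ y hne)
      rw [e1, e2]
  have h3 : lam M ξ₂ (eB M b₁) = lam M ξ₁ (eB M b₁) := by
    rw [eq_sum_classSumZ (eB M b₁), map_sum, map_sum]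
    refine Finset.sum_congr rfl fun C _ => ?_
    rw [map_smul, map_smul]
    exact key _
  rw [lam_eB M hind₁.1, lam_eB M hind₁.1, if_pos hξ₁] at h3
  have h4 : ξ₂ ∈ b₁ := by
    by_contra hne
    rw [if_neg hne] at h3
    exact zero_ne_one h3
  exact IsPBlock.eq_of_mem_mem hMm.isPrime hind₁.1 hind₂.1 h4 hξ₂

end blocks

end Cfsg.Agent.Lib.Helper16
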