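import Mathlib
import Cfsg.Agent.Lib.Helper16.FirstMain
import Cfsg.Agent.Lib.Helper15.Relative

/-!
# Transport of block-theoretic notions along group isomorphisms and in towers (helper16)
-/

set_option autoImplicit false

namespace Cfsg.Agent.Lib.Helper16

open Cfsg Cfsg.Agent.Lib.Helper78

section equiv

variable {A B : Type*} [Group A] [Group B] [Fintype A] [Fintype B] (e : A ≃* B)

/-- transport of irreducible characters along an isomorphism -/
noncomputable def irrCongr : IrrCharacter B ≃ IrrCharacter A where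
  toFun χ := ⟨(χ : B → ℂ) ∘ e, Cfsg.Agent.Lib.Helper15.irr_comp_equiv e χ.2⟩
  invFun χ := ⟨(χ : A → ℂ) ∘ e.symm, Cfsg.Agent.Lib.Helper15.irr_comp_equiv e.symm χ.2⟩
  left_inv χ := by
    apply Subtype.ext
    funext b
    simp
  right_inv χ := by
    apply Subtype.ext
    funext b
    simp

theorem irrCongr_apply (χ : IrrCharacter B) (a : A) : (irrCongr e χ : A → ℂ) a = (χ : B → ℂ) (e a) :=
  rfl

theorem omega_comp_equiv (χ : B → ℂ) (a : B → ℂ) : omega (χ ∘ e) (a ∘ e) = omega χ a := by
  unfold omega
  rw [Function.comp_apply, map_one]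
  congr 1
  exact Fintype.sum_equiv e.toEquiv _ _ (fun x => rfl)

variable (M : Ideal AlgInt) [hMm : M.IsMaximal]

theorem lam_irrCongr (χ : IrrCharacter B) (z : Zc (FM M) A) (w : Zc (FM M) B)
    (h : ∀ a, z.1.coeff a = w.1.coeff (e a)) : lam M (irrCongr e χ) z = lam M χ w := by
  rw [lam_apply, lam_apply]
  unfold lamFun
  congr 1
  rw [← omega_comp_equiv e]
  congr 1
  funext a
  simp only [liftFun, Function.comp_apply, h]

/-- transport of central elements along an isomorphism -/
noncomputable def zcCongr (k : Type*) [Field k] (z : Zc k A) : Zc k B :=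
  ⟨ofFun (fun b => z.1.coeff (e.symm b)), by
    rw [mem_center_iff_coeff]
    intro g h
    have := (mem_center_iff_coeff.1 z.2) (e.symm g) (e.symm h)
    simpa using this⟩

theorem zcCongr_coeff (k : Type*) [Field k] (z : Zc k A) (a : A) :
    (zcCongr e k z).1.coeff (e a) = z.1.coeff a := by
  simp [zcCongr]

theorem sameBlock_irrCongr_iff (χ ψ : IrrCharacter B) :
    SameBlock M (irrCongr e χ : A → ℂ) (irrCongr e ψ : A → ℂ) ↔
      SameBlock M (χ : B → ℂ) (ψ : B → ℂ) := by
  rw [sameBlock_iff_lam_eq, sameBlock_iff_lam_eq]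
  constructor
  · intro h
    apply AlgHom.ext
    intro w
    have h1 := lam_irrCongr e M χ (zcCongr e.symm _ w) w (fun a => by
      have := zcCongr_coeff e.symm (FM M) w (e a)
      simpa using this)
    have h2 := lam_irrCongr e M ψ (zcCongr e.symm _ w) w (fun a => by
      have := zcCongr_coeff e.symm (FM M) w (e a)
      simpa using this)
    rw [← h1, ← h2, h]
  · intro h
    apply AlgHom.ext
    intro z
    rw [lam_irrCongr e M χ z (zcCongr e _ z) (fun a => (zcCongr_coeff e _ z a).symm),
      lam_irrCongr e M ψ z (zcCongr e _ z) (fun a => (zcCongr_coeff e _ z a).symm), h]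

end equiv

section tower

variable {G : Type*} [Group G] [Fintype G] {H K : Subgroup G} (hHK : H ≤ K)
variable [Fintype H] [Fintype K] [Fintype (H.subgroupOf K)]
variable (M : Ideal AlgInt) [hMm : M.IsMaximal]

/-- irreducible characters of `H` as irreducible characters of `H.subgroupOf K` -/
noncomputable def downIrr : IrrCharacter H ≃ IrrCharacter (H.subgroupOf K) :=
  irrCongr (Subgroup.subgroupOfEquivOfLe hHK)

theorem downIrr_apply (θ : IrrCharacter H) (x : H.subgroupOf K) :
    (downIrr hHK θ : H.subgroupOf K → ℂ) x = (θ : H → ℂ) ⟨((x : K) : G), x.2⟩ := rfl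

theorem lam_downIrr (θ : IrrCharacter H) (z : Zc (FM M) G) :
    lam M (downIrr hHK θ) (resZ (H.subgroupOf K) (resZ K z)) = lam M θ (resZ H z) :=
  lam_irrCongr _ M θ _ _ (fun _ => rfl)

theorem sameBlock_downIrr_iff (θ θ' : IrrCharacter H) :
    SameBlock M (downIrr hHK θ : H.subgroupOf K → ℂ) (downIrr hHK θ' : H.subgroupOf K → ℂ) ↔
      SameBlock M (θ : H → ℂ) (θ' : H → ℂ) :=
  sameBlock_irrCongr_iff _ M θ θ'

end tower

end Cfsg.Agent.Lib.Helper16
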