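import Mathlib
import Cfsg.Agent.Lib.Helper16.RelMain
import Cfsg.Agent.Lib.Helper16.Transport
import Cfsg.Agent.Lib.Helper80.OddFix
import Cfsg.Agent.Lib.Helper81.Det
import Cfsg.Agent.S0888
import Cfsg.Agent.S0867
import Cfsg.Agent.S4551

/-!
# Existence of an extension of a principal block character of `p'`-degree
-/

set_option autoImplicit false

namespace Cfsg.Agent.Lib.Helper16

open Cfsg Cfsg.Agent.Lib.Helper78 Cfsg.Agent.Lib.Helper15

noncomputable section

variable {G : Type*} [Group G] [Finite G] (p : ℕ) [Fact p.Prime] (N : Subgroup G) [hN : N.Normal]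

/-- `N C_G(Q)` is normal in `G` (Frattini). -/
theorem sup_centralizer_normal (Q : Sylow p N) :
    (N ⊔ Subgroup.centralizer (((Q : Subgroup N).map N.subtype : Subgroup G) : Set G)).Normal := by
  set Q' : Subgroup G := (Q : Subgroup N).map N.subtype with hQ'
  set H := N ⊔ Subgroup.centralizer (Q' : Set G) with hH
  rw [← Subgroup.normalizer_eq_top_iff, eq_top_iff, ← Sylow.normalizer_sup_eq_top Q, sup_le_iff]
  have key : ∀ x ∈ Subgroup.normalizer (Q' : Set G), ∀ h ∈ H, x * h * x⁻¹ ∈ H := by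
    intro x hx h hh
    obtain ⟨n, hn, c, hc, rfl⟩ := Subgroup.mem_sup_of_normal_left.1 hh
    have : x * (n * c) * x⁻¹ = (x * n * x⁻¹) * (x * c * x⁻¹) := by group
    rw [this]
    exact Subgroup.mul_mem_sup (hN.conj_mem n hn x) (conj_mem_centralizer_of_mem_normalizer hx hc)
  constructor
  · intro x hx
    rw [Subgroup.mem_normalizer_iff]
    intro h
    constructor
    · exact key x hx h
    · intro hh
      have := key x⁻¹ (Subgroup.inv_mem _ hx) _ hh
      simpa [mul_assoc] using this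
  · exact le_sup_left.trans Subgroup.le_normalizer

variable {p N}

/-- extension to an overgroup of `p`-power index -/
theorem ext_p_part {θ : N → ℂ} (hθ : IsIrrCharacter N θ) (hinv : ∀ g : G, Helper15.cj N g θ = θ)
    (hdeg : ¬ p ∣ charDegree θ) {m : ℕ} (hm : ¬ p ∣ m) (hdet : ∀ n : N, detChar θ n ^ m = 1)
    {P : Subgroup G} (hNP : N ≤ P) {j : ℕ} (hrel : N.relIndex P = p ^ j) :
    ∃ η : P → ℂ, IsIrrCharacter P η ∧ ∀ n : N, η ⟨(n : G), hNP n.2⟩ = θ n := by
  have hp : p.Prime := Fact.out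
  have hd : downFun N P θ 1 = (charDegree θ : ℂ) := by
    have : downFun N P θ 1 = θ 1 := rfl
    rw [this]
    exact irr_one_eq ⟨θ, hθ⟩
  have hord : detOrder (downFun N P θ) ∣ m := by
    unfold detOrder
    apply orderOf_dvd_of_pow_eq_one
    funext x
    rw [Pi.pow_apply, Pi.one_apply]
    have h1 : downFun N P θ = fun y => θ ((Subgroup.subgroupOfEquivOfLe hNP).toMonoidHom y) := rfl
    rw [h1, Helper81.detChar_comp _ (Helper74.IsIrrCharacter.isCharacter hθ)]
    exact hdet _
  have hcop : Nat.Coprime (N.subgroupOf P).index (detOrder (downFun N P θ) * charDegree θ) := by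
    have : (N.subgroupOf P).index = p ^ j := hrel
    rw [this]
    apply Nat.Coprime.pow_left
    rw [Nat.Prime.coprime_iff_not_dvd hp]
    exact hp.not_dvd_mul (fun h => hm (h.trans hord)) hdeg
  obtain ⟨χ, ⟨hχ, hres, -⟩, -⟩ := Cfsg.Agent.S0867.result (N.subgroupOf P) (downFun N P θ)
    (irr_downFun hNP hθ) (fun g n => Helper80.cj_downFun N (fun g _ => hinv g) g n)
    (charDegree θ) hd hcop
  exact ⟨χ, hχ, fun n => hres ⟨⟨(n : G), hNP n.2⟩, Subgroup.mem_subgroupOf.2 n.2⟩⟩

/-- extension to an overgroup of `p'`-index inside `N C_G(Q)` (Alperin--Dade) -/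
theorem ext_r_part {M : Ideal AlgInt} (hM : IsPModular p M) (θ : IrrCharacter N)
    (hB : θ ∈ principalBlock M N) (Q : Sylow p N) {P : Subgroup G} (hNP : N ≤ P)
    (hPH : P ≤ N ⊔ Subgroup.centralizer (((Q : Subgroup N).map N.subtype : Subgroup G) : Set G))
    (hrel : ¬ p ∣ N.relIndex P) :
    ∃ η : P → ℂ, IsIrrCharacter P η ∧ ∀ n : N, η ⟨(n : G), hNP n.2⟩ = (θ : N → ℂ) n := by
  classical
  haveI : Fintype G := Fintype.ofFinite G
  haveI : Fintype N := Fintype.ofFinite N
  haveI : Fintype P := Fintype.ofFinite P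
  haveI : Fintype (N.subgroupOf P) := Fintype.ofFinite _
  haveI hMm : M.IsMaximal := hM.2.1
  set Q' : Subgroup G := (Q : Subgroup N).map N.subtype with hQ'
  have hQN : Q' ≤ N := Subgroup.map_subtype_le _
  have hpg : IsPGroup p (Q'.subgroupOf P) := by
    have h1 : IsPGroup p Q' := Q.2.map _
    exact h1.comap_subtype
  have hind : ¬ p ∣ (Q'.subgroupOf P).index := by
    have h1 : (Q'.subgroupOf P).index = Q'.relIndex N * N.relIndex P :=
      (Subgroup.relIndex_mul_relIndex Q' N P hQN hNP).symm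
    have h2 : Q'.relIndex N = (Q : Subgroup N).index := by
      unfold Subgroup.relIndex
      congr 1
      exact Subgroup.comap_map_eq_self_of_injective N.subtype_injective _
    rw [h1, h2]
    exact (Fact.out : p.Prime).not_dvd_mul Q.not_dvd_index hrel
  have hsup : N.subgroupOf P ⊔ Subgroup.centralizer (((hpg.toSylow hind : Sylow p P) :
      Subgroup P) : Set P) = ⊤ := by
    rw [eq_top_iff]
    intro x _
    obtain ⟨n, hn, c, hc, hx⟩ := Subgroup.mem_sup_of_normal_left.1 (hPH x.2)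
    have hcP : c ∈ P := by
      have : c = n⁻¹ * x := by rw [← hx]; group
      rw [this]
      exact P.mul_mem (P.inv_mem (hNP hn)) x.2
    have hx' : x = (⟨n, hNP hn⟩ : P) * ⟨c, hcP⟩ := Subtype.ext hx.symm
    rw [hx']
    refine Subgroup.mul_mem_sup (Subgroup.mem_subgroupOf.2 hn) ?_
    rw [Subgroup.mem_centralizer_iff]
    intro q hq
    apply Subtype.ext
    have hq' : (q : G) ∈ Q' := by
      have : q ∈ Q'.subgroupOf P := by simpa using hq
      exact Subgroup.mem_subgroupOf.1 this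
    exact (Subgroup.mem_centralizer_iff.1 hc) q hq'
  have hB' : downIrr hNP θ ∈ principalBlock M (N.subgroupOf P) :=
    (sameBlock_downIrr_iff hNP M ⟨fun _ => 1, irr_one⟩ θ).2 hB
  obtain ⟨χ, ⟨-, hres⟩, -⟩ := (Cfsg.Agent.S4551.result p M hM (N.subgroupOf P) hrel
    (hpg.toSylow hind) hsup).2 (downIrr hNP θ) hB'
  exact ⟨χ, χ.2, fun n => hres ⟨⟨(n : G), hNP n.2⟩, Subgroup.mem_subgroupOf.2 n.2⟩⟩

theorem mem_of_pow_mem_of_coprime {H : Subgroup G} [H.Normal] {x : G} {a b : ℕ}
    (ha : x ^ a ∈ H) (hb : x ^ b ∈ H) (hab : Nat.Coprime a b) : x ∈ H := by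
  rw [← QuotientGroup.eq_one_iff] at ha hb ⊢
  rw [QuotientGroup.mk_pow] at ha hb
  have h1 := orderOf_dvd_of_pow_eq_one ha
  have h2 := orderOf_dvd_of_pow_eq_one hb
  have h3 : orderOf (x : G ⧸ H) = 1 := Nat.eq_one_of_dvd_coprimes hab h1 h2
  exact orderOf_eq_one_iff.1 h3

/-- **Existence of an extension.** -/
theorem exists_extension {M : Ideal AlgInt} (hM : IsPModular p M) (θ : IrrCharacter N)
    (hB : θ ∈ principalBlock M N) (hinv : ∀ g : G, Helper15.cj N g (θ : N → ℂ) = θ)
    (hdeg : ¬ p ∣ charDegree (θ : N → ℂ)) {m : ℕ} (hm : ¬ p ∣ m)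
    (hdet : ∀ n : N, detChar (θ : N → ℂ) n ^ m = 1) (Q : Sylow p N) {a : ℕ}
    (hidx : (N ⊔ Subgroup.centralizer
      (((Q : Subgroup N).map N.subtype : Subgroup G) : Set G)).index = p ^ a) :
    ∃ χ : G → ℂ, IsIrrCharacter G χ ∧ ∀ n : N, χ n = (θ : N → ℂ) n := by
  have hp : p.Prime := Fact.out
  haveI := sup_centralizer_normal p N Q
  refine Cfsg.Agent.S0888.result N θ θ.2 (fun g n => congrFun (hinv g) n) ?_
  intro r hr
  haveI : Fact r.Prime := ⟨hr⟩
  let S : Sylow r (G ⧸ N) := default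
  set P : Subgroup G := (S : Subgroup (G ⧸ N)).comap (QuotientGroup.mk' N) with hP
  have hNP : N ≤ P := QuotientGroup.le_comap_mk' N _
  have hPidx : P.index = (S : Subgroup (G ⧸ N)).index := by
    rw [hP, Subgroup.index_comap_of_surjective _ (QuotientGroup.mk'_surjective N)]
  obtain ⟨j, hj⟩ := IsPGroup.iff_card.1 S.2
  have hrel : N.relIndex P = r ^ j := by
    have h1 := Subgroup.relIndex_mul_index hNP
    have h2 := (S : Subgroup (G ⧸ N)).card_mul_index
    rw [hPidx, Subgroup.index_eq_card N, ← h2, hj] at h1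
    exact Nat.eq_of_mul_eq_mul_right (Nat.pos_of_ne_zero (Subgroup.index_ne_zero_of_finite)) h1
  have hcop : Nat.Coprime P.index r := by
    rw [hPidx]
    exact ((Nat.Prime.coprime_iff_not_dvd hr).2 S.not_dvd_index).symm
  by_cases hrp : r = p
  · subst hrp
    obtain ⟨η, hη, hres⟩ := ext_p_part θ.2 hinv hdeg hm hdet hNP hrel
    exact ⟨P, hNP, η, hcop, ⟨j, hrel⟩, hη, hres⟩
  · have hPH : P ≤ N ⊔ Subgroup.centralizer
        (((Q : Subgroup N).map N.subtype : Subgroup G) : Set G) := by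
      intro x hx
      have hx' : (QuotientGroup.mk' N x) ∈ (S : Subgroup (G ⧸ N)) := hx
      obtain ⟨k, hk⟩ := S.2 ⟨_, hx'⟩
      have h1 : x ^ r ^ k ∈ N := by
        have := congrArg Subtype.val hk
        simp only [Subgroup.coe_pow, Subgroup.coe_one] at this
        rw [← map_pow] at this
        exact (QuotientGroup.eq_one_iff _).1 this
      have h2 := Subgroup.pow_index_mem (N ⊔ Subgroup.centralizer
        (((Q : Subgroup N).map N.subtype : Subgroup G) : Set G)) x
      rw [hidx] at h2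
      exact mem_of_pow_mem_of_coprime (le_sup_left (a := N) h1) h2
        (Nat.Coprime.pow _ _ ((Nat.coprime_primes hr hp).2 hrp))
    have hrel' : ¬ p ∣ N.relIndex P := by
      rw [hrel]
      intro h
      exact hrp ((Nat.prime_dvd_prime_iff_eq hp hr).1 (hp.dvd_of_dvd_pow h)).symm
    obtain ⟨η, hη, hres⟩ := ext_r_part hM θ hB Q hNP hPH hrel'
    exact ⟨P, hNP, η, hcop, ⟨j, hrel⟩, hη, hres⟩

end

end Cfsg.Agent.Lib.Helper16
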