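import Cfsg.Agent.Lib.Helper97.FH.Defs
import Mathlib.NumberTheory.Niven

set_option autoImplicit false

/-! # Feit--Higman farm, piece NT : the number theory (Niven's theorem) -/

namespace Cfsg.Agent.Lib.Helper16.FH

open Cfsg Cfsg.Agent.Lib.Helper97.FH

theorem rat_of_lin (a b : ℚ) (x : ℝ) (ha : a ≠ 0) (h : (a : ℝ) * x = b) : ∃ q : ℚ, x = q := by
  refine ⟨b / a, ?_⟩
  have : (a : ℝ) ≠ 0 := by exact_mod_cast ha
  push_cast
  field_simp
  linarith

theorem niven_nat (k : ℕ) (hk : 2 ≤ k) (h : ∃ q : ℚ, Real.cos (2 * Real.pi / k) = q) :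
    k = 2 ∨ k = 3 ∨ k = 4 ∨ k = 6 := by
  have hk0 : (0 : ℚ) < k := by exact_mod_cast (by omega : 0 < k)
  have hk2 : (2 : ℚ) ≤ k := by exact_mod_cast hk
  have h1 := niven_angle_div_pi_eq (r := 2 / k) (by
    obtain ⟨q, hq⟩ := h
    refine ⟨q, ?_⟩
    rw [← hq]
    congr 1
    push_cast
    ring) ⟨by positivity, by rw [div_le_one hk0]; exact hk2⟩
  simp only [Set.mem_insert_iff, Set.mem_singleton_iff] at h1
  have hne : (k : ℚ) ≠ 0 := hk0.ne'
  rcases h1 with h1 | h1 | h1 | h1 | h1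
  · exfalso
    field_simp at h1
    norm_num at h1
  · right; right; right
    field_simp at h1
    have : (k : ℚ) = 6 := by linarith
    exact_mod_cast this
  · right; right; left
    field_simp at h1
    have : (k : ℚ) = 4 := by linarith
    exact_mod_cast this
  · right; left
    field_simp at h1
    have : (k : ℚ) = 3 := by linarith
    exact_mod_cast this
  · left
    field_simp at h1
    have : (k : ℚ) = 2 := by linarith
    exact_mod_cast this

/-- odd case: `x` is rational -/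
theorem x_rat_odd (A B q d : ℕ) (hA : 0 < A) (hq : 2 ≤ q) (x : ℝ)
    (h : (A : ℝ) * q * q * (4 - x ^ 2) = d * B * Xi q q x) : ∃ r : ℚ, x = r := by
  have hq0 : (q : ℝ) ≠ 0 := by
    have : 0 < q := by omega
    exact_mod_cast this.ne'
  unfold Xi at h
  rw [Real.sqrt_mul_self (Nat.cast_nonneg q)] at h
  by_cases hx2 : 2 + x = 0
  · exact ⟨-2, by push_cast; linarith⟩
  have h1 : (2 + x) * ((q : ℝ) * ((A : ℝ) * q * (2 - x) - d * B * (q ^ 2 + 1 - q * x))) = 0 := by
    linear_combination h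
  have h2 : (A : ℝ) * q * (2 - x) - d * B * (q ^ 2 + 1 - q * x) = 0 := by
    rcases mul_eq_zero.mp h1 with h1 | h1
    · exact absurd h1 hx2
    · rcases mul_eq_zero.mp h1 with h1 | h1
      · exact absurd h1 hq0
      · exact h1
  have hab : (((d : ℚ) * B * q - A * q : ℚ) : ℝ) * x = ((d : ℚ) * B * (q ^ 2 + 1) - 2 * A * q : ℚ) := by
    push_cast
    linear_combination h2
  refine rat_of_lin _ _ x ?_ hab
  intro ha
  rw [ha] at hab
  have hb : ((d : ℚ) * B * (q ^ 2 + 1) - 2 * A * q : ℚ) = 0 := by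
    have : (((d : ℚ) * B * (q ^ 2 + 1) - 2 * A * q : ℚ) : ℝ) = 0 := by
      rw [← hab]; simp
    exact_mod_cast this
  have hq0' : (q : ℚ) ≠ 0 := by exact_mod_cast hq0
  have hdB : (d : ℚ) * B = A := by
    have : ((d : ℚ) * B - A) * q = 0 := by linear_combination ha
    rcases mul_eq_zero.mp this with h | h
    · linarith
    · exact absurd h hq0'
  rw [hdB] at hb
  have hq1 : (0 : ℚ) < q - 1 := by
    have : (2 : ℚ) ≤ q := by exact_mod_cast hq
    linarith
  have hA' : (0 : ℚ) < A := by exact_mod_cast hA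
  have : (0 : ℚ) < A * (q - 1) ^ 2 := mul_pos hA' (pow_pos hq1 2)
  nlinarith

/-- even case: `x ^ 2` is rational -/
theorem xsq_rat_even (A B u v d1 d2 : ℕ) (hA : 0 < A) (hB : 0 < B) (hu : 2 ≤ u) (hv : 2 ≤ v)
    (x : ℝ)
    (h1 : (A : ℝ) * u * v * (4 - x ^ 2) = d1 * B * Xi u v x)
    (h2 : (A : ℝ) * u * v * (4 - (-x) ^ 2) = d2 * B * Xi u v (-x)) : ∃ r : ℚ, x ^ 2 = r := by
  by_cases hy : 4 - x ^ 2 = 0
  · exact ⟨4, by push_cast; linarith⟩
  have hA' : (A : ℝ) ≠ 0 := by exact_mod_cast hA.ne'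
  have hu' : (u : ℝ) ≠ 0 := by
    have : 0 < u := by omega
    exact_mod_cast this.ne'
  have hv' : (v : ℝ) ≠ 0 := by
    have : 0 < v := by omega
    exact_mod_cast this.ne'
  have hL : (A : ℝ) * u * v * (4 - x ^ 2) ≠ 0 := by positivity
  have hd1 : d1 ≠ 0 := by
    rintro rfl
    apply hL
    rw [h1]; simp
  have hd2 : d2 ≠ 0 := by
    rintro rfl
    apply hL
    have : (-x) ^ 2 = x ^ 2 := by ring
    rw [← this, h2]; simp
  unfold Xi at h1 h2
  have hab : (((2 : ℚ) * d1 * d2 * B * u * v - (d1 + d2) * A * u * v : ℚ) : ℝ) * x ^ 2 =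
      ((2 : ℚ) * d1 * d2 * B * (v * (u + 1) ^ 2 + u * (v - 1) ^ 2) - 4 * (d1 + d2) * A * u * v : ℚ) := by
    push_cast
    linear_combination (d2 : ℝ) * h1 + (d1 : ℝ) * h2
  refine rat_of_lin _ _ _ ?_ hab
  intro ha
  rw [ha] at hab
  have hb : ((2 : ℚ) * d1 * d2 * B * (v * (u + 1) ^ 2 + u * (v - 1) ^ 2)
      - 4 * (d1 + d2) * A * u * v : ℚ) = 0 := by
    have : (((2 : ℚ) * d1 * d2 * B * (v * (u + 1) ^ 2 + u * (v - 1) ^ 2)
      - 4 * (d1 + d2) * A * u * v : ℚ) : ℝ) = 0 := by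
      rw [← hab]; simp
    exact_mod_cast this
  have hu1 : (0 : ℚ) < u - 1 := by
    have : (2 : ℚ) ≤ u := by exact_mod_cast hu
    linarith
  have hv0 : (0 : ℚ) < v := by
    have : 0 < v := by omega
    exact_mod_cast this
  have hu0 : (0 : ℚ) < u := by
    have : 0 < u := by omega
    exact_mod_cast this
  have hd1' : (0 : ℚ) < d1 := by exact_mod_cast Nat.pos_of_ne_zero hd1
  have hd2' : (0 : ℚ) < d2 := by exact_mod_cast Nat.pos_of_ne_zero hd2
  have hB' : (0 : ℚ) < B := by exact_mod_cast hB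
  have hpos : (0 : ℚ) < 2 * d1 * d2 * B * (v * (u - 1) ^ 2 + u * (v - 1) ^ 2) := by
    have h3 : (0 : ℚ) < v * (u - 1) ^ 2 := mul_pos hv0 (pow_pos hu1 2)
    have h4 : (0 : ℚ) ≤ u * (v - 1) ^ 2 := by positivity
    have h5 : (0 : ℚ) < v * (u - 1) ^ 2 + u * (v - 1) ^ 2 := by linarith
    positivity
  have : (2 : ℚ) * d1 * d2 * B * (v * (u - 1) ^ 2 + u * (v - 1) ^ 2) = 0 := by
    linear_combination hb - 4 * ha
  linarith

/-- `m = 12` is impossible -/
theorem not_twelve (A B u v d1 d2 : ℕ) (hA : 0 < A) (hB : 0 < B) (hu : 2 ≤ u) (hv : 2 ≤ v)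
    (h1 : (A : ℝ) * u * v * (4 - (1 : ℝ) ^ 2) = d1 * B * Xi u v 1)
    (h2 : (A : ℝ) * u * v * (4 - (Real.sqrt 3) ^ 2) = d2 * B * Xi u v (Real.sqrt 3)) : False := by
  have hA' : (0 : ℝ) < A := by exact_mod_cast hA
  have hB' : (B : ℚ) ≠ 0 := by exact_mod_cast hB.ne'
  have hu' : (0 : ℝ) < u := by
    have : 0 < u := by omega
    exact_mod_cast this
  have hv' : (0 : ℝ) < v := by
    have : 0 < v := by omega
    exact_mod_cast this
  have hu1 : (u : ℚ) - 1 ≠ 0 := by
    have : (2 : ℚ) ≤ u := by exact_mod_cast hu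
    intro h; linarith
  have hv1 : (v : ℚ) - 1 ≠ 0 := by
    have : (2 : ℚ) ≤ v := by exact_mod_cast hv
    intro h; linarith
  have h3 : (Real.sqrt 3) ^ 2 = 3 := Real.sq_sqrt (by norm_num)
  rw [h3] at h2
  have hd1 : (d1 : ℚ) ≠ 0 := by
    intro h0
    have h0' : d1 = 0 := by exact_mod_cast h0
    subst h0'
    have : (0 : ℝ) < (A : ℝ) * u * v * (4 - (1 : ℝ) ^ 2) := by
      have : (0 : ℝ) < 4 - (1 : ℝ) ^ 2 := by norm_num
      positivity
    rw [h1] at this
    simp at this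
  have hd2 : (d2 : ℚ) ≠ 0 := by
    intro h0
    have h0' : d2 = 0 := by exact_mod_cast h0
    subst h0'
    have : (0 : ℝ) < (A : ℝ) * u * v * (4 - 3) := by
      have : (0 : ℝ) < 4 - 3 := by norm_num
      positivity
    rw [h2] at this
    simp at this
  unfold Xi at h1 h2
  rw [h3] at h2
  set s : ℝ := Real.sqrt (u * v) with hs
  have hs0 : 0 < s := Real.sqrt_pos.mpr (by positivity)
  obtain ⟨q, hq⟩ : ∃ q : ℚ, s = q := by
    refine rat_of_lin ((d1 : ℚ) * B * (u - 1) * (v - 1))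
      (3 * A * u * v - d1 * B * (v * (u + 1) ^ 2 + u * (v - 1) ^ 2 - u * v)) s ?_ ?_
    · exact mul_ne_zero (mul_ne_zero (mul_ne_zero hd1 hB') hu1) hv1
    · push_cast
      linear_combination -h1
  have hq0 : q ≠ 0 := by
    intro h0
    rw [h0] at hq
    simp at hq
    linarith
  obtain ⟨r, hr⟩ : ∃ r : ℚ, Real.sqrt 3 = r := by
    refine rat_of_lin ((d2 : ℚ) * B * q * (u - 1) * (v - 1))
      (A * u * v - d2 * B * (v * (u + 1) ^ 2 + u * (v - 1) ^ 2 - u * v * 3)) _ ?_ ?_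
    · exact mul_ne_zero (mul_ne_zero (mul_ne_zero (mul_ne_zero hd2 hB') hq0) hu1) hv1
    · push_cast
      rw [← hq]
      linear_combination -h2
  have hirr : Irrational (Real.sqrt ((3 : ℕ) : ℝ)) := Nat.Prime.irrational_sqrt Nat.prime_three
  apply hirr
  exact ⟨r, by rw [← hr]; norm_num⟩

theorem nt (A β m u v : ℕ) (hA : 0 < A) (hβ : 0 < β) (hm : 2 ≤ m) (hu : 2 ≤ u) (hv : 2 ≤ v)
    (hodd : Odd m → u = v)
    (H : ∀ j : ℕ, ¬ m ∣ 2 * j →
      ∃ d : ℕ, (A : ℝ) * u * v * (4 - (2 * Real.cos (2 * Real.pi * j / m)) ^ 2) =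
        d * β * m * Xi u v (2 * Real.cos (2 * Real.pi * j / m))) :
    m = 2 ∨ m = 3 ∨ m = 4 ∨ m = 6 ∨ m = 8 := by
  rcases Nat.even_or_odd m with hev | hod
  · obtain ⟨h, rfl⟩ := even_iff_two_dvd.mp hev
    by_cases h1 : h = 1
    · left; omega
    obtain ⟨k, rfl⟩ : ∃ k, h = k + 1 := ⟨h - 1, by omega⟩
    have hk : 1 ≤ k := by omega
    obtain ⟨d1, hd1⟩ := H 1 (by
      intro hd
      have := Nat.le_of_dvd (by norm_num) hd
      omega)
    obtain ⟨d2, hd2⟩ := H k (by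
      intro hd
      have := Nat.le_of_dvd (by omega) hd
      omega)
    have hk0 : ((k : ℝ) + 1) ≠ 0 := by positivity
    have e2 : Real.cos (2 * Real.pi * (k : ℝ) / ((2 * (k + 1) : ℕ) : ℝ)) =
        - Real.cos (2 * Real.pi * ((1 : ℕ) : ℝ) / ((2 * (k + 1) : ℕ) : ℝ)) := by
      rw [← Real.cos_pi_sub]
      congr 1
      push_cast
      field_simp
      ring
    rw [e2] at hd2
    set x : ℝ := 2 * Real.cos (2 * Real.pi * ((1 : ℕ) : ℝ) / ((2 * (k + 1) : ℕ) : ℝ)) with hx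
    have e3 : 2 * -Real.cos (2 * Real.pi * ((1 : ℕ) : ℝ) / ((2 * (k + 1) : ℕ) : ℝ)) = -x := by
      rw [hx]; ring
    rw [e3] at hd2
    obtain ⟨r, hr⟩ := xsq_rat_even A (β * (2 * (k + 1))) u v d1 d2 hA (by positivity) hu hv x
      (by rw [hd1]; push_cast; ring) (by rw [hd2]; push_cast; ring)
    have hcos : ∃ q : ℚ, Real.cos (2 * Real.pi / ((k + 1 : ℕ) : ℝ)) = q := by
      refine ⟨(r - 2) / 2, ?_⟩
      have e4 : 2 * Real.pi / ((k + 1 : ℕ) : ℝ) =
          2 * (2 * Real.pi * ((1 : ℕ) : ℝ) / ((2 * (k + 1) : ℕ) : ℝ)) := by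
        push_cast
        field_simp
      rw [e4, Real.cos_two_mul]
      have e6 : Real.cos (2 * Real.pi * ((1 : ℕ) : ℝ) / ((2 * (k + 1) : ℕ) : ℝ)) = x / 2 := by
        rw [hx]; ring
      rw [e6, Rat.cast_div, Rat.cast_sub, ← hr]
      push_cast
      ring
    rcases niven_nat (k + 1) (by omega) hcos with h2 | h2 | h2 | h2
    · right; right; left; omega
    · right; right; right; left; omega
    · right; right; right; right; omega
    · exfalso
      have hk5 : k = 5 := by omega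
      subst hk5
      obtain ⟨d3, hd3⟩ := H 2 (by norm_num)
      have c1 : Real.cos (2 * Real.pi * ((2 : ℕ) : ℝ) / ((2 * (5 + 1) : ℕ) : ℝ)) = 1 / 2 := by
        rw [← Real.cos_pi_div_three]
        congr 1
        push_cast
        ring
      have c2 : x = Real.sqrt 3 := by
        rw [hx]
        have : Real.cos (2 * Real.pi * ((1 : ℕ) : ℝ) / ((2 * (5 + 1) : ℕ) : ℝ)) = Real.sqrt 3 / 2 := by
          rw [← Real.cos_pi_div_six]
          congr 1
          push_cast
          ring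
        rw [this]; ring
      rw [c1] at hd3
      rw [c2] at hd1
      have e5 : (2 : ℝ) * (1 / 2) = 1 := by norm_num
      rw [e5] at hd3
      exact not_twelve A (β * (2 * (5 + 1))) u v d3 d1 hA (by positivity) hu hv
        (by rw [hd3]; push_cast; ring) (by rw [hd1]; push_cast; ring)
  · have huv := hodd hod
    subst huv
    have hm3 : 3 ≤ m := by
      rcases hod with ⟨k, rfl⟩
      omega
    obtain ⟨d, hd⟩ := H 1 (by
      intro hd
      have := Nat.le_of_dvd (by norm_num) hd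
      omega)
    obtain ⟨r, hr⟩ := x_rat_odd A (β * m) u d hA hu _ (by rw [hd]; push_cast; ring)
    have hcos : ∃ q : ℚ, Real.cos (2 * Real.pi / (m : ℝ)) = q := by
      refine ⟨r / 2, ?_⟩
      push_cast
      rw [← hr]
      push_cast
      ring_nf
    rcases niven_nat m hm hcos with h2 | h2 | h2 | h2
    · left; exact h2
    · right; left; exact h2
    · right; right; left; exact h2
    · right; right; right; left; exact h2

end Cfsg.Agent.Lib.Helper16.FH
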