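import Cfsg.Agent.Lib.Helper15.FullyRam
import Cfsg.Agent.Lib.Helper15.RelGl1
import Cfsg.Agent.S0886

/-!
# Fully ramified characters farm: piece A (DeMeyer-Janusz)
-/

set_option autoImplicit false

namespace Cfsg.Agent.Lib.Helper16.FR

open Cfsg Cfsg.Agent.Lib Cfsg.Agent.Lib.Helper15
open scoped ComplexConjugate

variable {Y : Type*} [Group Y] [Fintype Y]

omit [Fintype Y] in
theorem sum_eq_sum_of_vanish {Z S : Subgroup Y} [Fintype Z] [Fintype S] (hZS : Z ≤ S) (f : S → ℂ)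
    (h0 : ∀ x : S, (x : Y) ∉ Z → f x = 0) : ∑ x : S, f x = ∑ z : Z, f ⟨z, hZS z.2⟩ := by
  symm
  refine Fintype.sum_of_injective (fun z : Z => (⟨z, hZS z.2⟩ : S)) ?_ _ _ ?_ (fun _ => rfl)
  · intro a b hab
    exact Subtype.ext (congrArg (fun t : S => (t : Y)) hab)
  · intro x hx
    apply h0
    intro hxZ
    exact hx ⟨⟨x, hxZ⟩, rfl⟩

theorem sum_normSq_irr {X : Type*} [Group X] [Fintype X] {χ : X → ℂ} (h : IsIrrCharacter X χ) :
    ∑ x : X, Complex.normSq (χ x) = (Nat.card X : ℝ) := by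
  have h1 : (Nat.card X : ℂ)⁻¹ * ∑ g : X, χ g * conj (χ g) = 1 := irr_inner_self h
  have hc : (Nat.card X : ℂ) ≠ 0 := card_ne_zero X
  have h2 : ∑ g : X, χ g * conj (χ g) = (Nat.card X : ℂ) := by
    field_simp at h1
    exact h1
  have h3 : ((∑ x : X, Complex.normSq (χ x) : ℝ) : ℂ) = ((Nat.card X : ℝ) : ℂ) := by
    push_cast
    rw [← h2]
    refine Finset.sum_congr rfl fun g _ => ?_
    rw [Complex.mul_conj]
  exact_mod_cast h3

theorem pow_dvd_of_mul {p : ℕ} (hp : p.Prime) {e s m b : ℕ} (he : e ≠ 0) (hs : s ≠ 0)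
    (h : e * s = m * p ^ (2 * b)) (heb : ¬ p ^ (b + 1) ∣ e) : p ^ b ∣ s := by
  rw [hp.pow_dvd_iff_le_factorization hs]
  rw [hp.pow_dvd_iff_le_factorization he] at heb
  have h1 : p ^ (2 * b) ∣ e * s := ⟨m, by rw [h]; ring⟩
  rw [hp.pow_dvd_iff_le_factorization (mul_ne_zero he hs), Nat.factorization_mul he hs] at h1
  simp only [Finsupp.coe_add, Pi.add_apply] at h1
  omega

/-- PIECE A (DeMeyer-Janusz). -/
theorem dj {Z S : Subgroup Y} [Z.Normal] [Fintype Z] [Fintype S] (hZS : Z ≤ S)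
    {p : ℕ} (hp : p.Prime) {θ : Z → ℂ} (hθ : IsIrrCharacter Z θ)
    {Ψ : Y → ℂ} (hΨ : IsCharacter Y Ψ) {e : ℕ} (he : e ≠ 0)
    (hΨZ : ∀ z : Z, Ψ z = e * θ z) (hΨ0 : ∀ y : Y, y ∉ Z → Ψ y = 0)
    {b : ℕ} (hS : Nat.card S = Nat.card Z * p ^ (2 * b)) (heb : ¬ p ^ (b + 1) ∣ e)
    {ψ : S → ℂ} (hψ : IsIrrCharacter S ψ) (hψθ : classInner (resFun hZS ψ) θ ≠ 0) :
    resFun hZS ψ = ((p ^ b : ℕ) : ℂ) • θ ∧ ∀ x : S, (x : Y) ∉ Z → ψ x = 0 := by
  classical
  have he' : (e : ℂ) ≠ 0 := by exact_mod_cast he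
  have hinv : ∀ y : Y, cj Z y θ = θ := by
    intro y
    funext z
    rw [cj_apply]
    have h1 := hΨZ ⟨y * z * y⁻¹, (inferInstance : Z.Normal).conj_mem z z.2 y⟩
    have h2 := hΨZ z
    have h3 : Ψ (y * z * y⁻¹) = Ψ z := char_cf hΨ z y
    simp only at h1
    rw [h3, h2] at h1
    exact (mul_left_cancel₀ he' h1).symm
  have hres := rel_restrict_eq_smul hZS hψ hθ hψθ (fun k => hinv k)
  obtain ⟨s, hs⟩ := inner_nat (char_resFun hZS (irr_char hψ)) (irr_char hθ)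
  rw [hs] at hres
  have hs0 : s ≠ 0 := by
    rintro rfl
    apply hψθ
    rw [hs]; simp
  obtain ⟨m, hm⟩ := inner_nat (char_restrict hΨ S) (irr_char hψ)
  have hψz : ∀ z : Z, ψ ⟨z, hZS z.2⟩ = s * θ z := by
    intro z
    have := congrFun hres z
    simpa [resFun_apply] using this
  have hcZ : (Nat.card Z : ℂ) ≠ 0 := card_ne_zero Z
  have hcS : (Nat.card S : ℂ) ≠ 0 := card_ne_zero S
  have hθθ : ∑ z : Z, θ z * conj (θ z) = (Nat.card Z : ℂ) := by
    have h1 : (Nat.card Z : ℂ)⁻¹ * ∑ g : Z, θ g * conj (θ g) = 1 := irr_inner_self hθ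
    field_simp at h1
    exact h1
  -- the multiplicity computation
  have hmul : (e : ℂ) * s * (Nat.card Z : ℂ) = (Nat.card S : ℂ) * m := by
    have h1 : (Nat.card S : ℂ)⁻¹ * ∑ x : S, Ψ x * conj (ψ x) = m := hm
    have h2 : ∑ x : S, Ψ x * conj (ψ x) = (Nat.card S : ℂ) * m := by
      field_simp at h1
      rw [h1]
    rw [← h2, sum_eq_sum_of_vanish hZS (fun x : S => Ψ x * conj (ψ x))
      (fun x hx => by simp only [hΨ0 _ hx, zero_mul])]
    have h3 : ∀ z : Z, Ψ ((⟨z, hZS z.2⟩ : S) : Y) * conj (ψ ⟨z, hZS z.2⟩) =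
        (e : ℂ) * s * (θ z * conj (θ z)) := by
      intro z
      rw [hψz z, hΨZ z, map_mul, Complex.conj_natCast]
      ring
    simp only [h3]
    rw [← Finset.mul_sum, hθθ]
  have hmulN : e * s = m * p ^ (2 * b) := by
    have h1 : (e * s * Nat.card Z : ℕ) = Nat.card Z * p ^ (2 * b) * m := by
      rw [← hS]
      exact_mod_cast hmul
    have hZpos : 0 < Nat.card Z := Nat.card_pos
    have h2 : Nat.card Z * (e * s) = Nat.card Z * (m * p ^ (2 * b)) := by
      calc Nat.card Z * (e * s) = e * s * Nat.card Z := by ring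
        _ = Nat.card Z * p ^ (2 * b) * m := h1
        _ = Nat.card Z * (m * p ^ (2 * b)) := by ring
    exact Nat.eq_of_mul_eq_mul_left hZpos h2
  have hdvd : p ^ b ∣ s := pow_dvd_of_mul hp he hs0 hmulN heb
  -- the norm inequality
  have hle : (s : ℝ) ^ 2 * (Nat.card Z : ℝ) ≤ (Nat.card S : ℝ) := by
    rw [← sum_normSq_irr hψ, ← sum_normSq_irr hθ, Finset.mul_sum]
    have h1 : ∀ z : Z, (s : ℝ) ^ 2 * Complex.normSq (θ z) =
        Complex.normSq (ψ ⟨z, hZS z.2⟩) := by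
      intro z
      rw [hψz z, Complex.normSq_mul, Complex.normSq_natCast]
      ring
    simp only [h1]
    have hinj : Function.Injective (fun z : Z => (⟨z, hZS z.2⟩ : S)) := by
      intro a b hab
      exact Subtype.ext (congrArg (fun t : S => (t : Y)) hab)
    rw [← Finset.sum_image (f := fun x : S => Complex.normSq (ψ x))
      (s := Finset.univ) (g := fun z : Z => (⟨z, hZS z.2⟩ : S)) (fun a _ b _ h => hinj h)]
    exact Finset.sum_le_univ_sum_of_nonneg (fun x => Complex.normSq_nonneg _)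
  have hleN : s ^ 2 ≤ p ^ (2 * b) := by
    have h1 : s ^ 2 * Nat.card Z ≤ Nat.card S := by exact_mod_cast hle
    rw [hS] at h1
    have hZpos : 0 < Nat.card Z := Nat.card_pos
    have h2 : Nat.card Z * s ^ 2 ≤ Nat.card Z * p ^ (2 * b) := by
      calc Nat.card Z * s ^ 2 = s ^ 2 * Nat.card Z := by ring
        _ ≤ _ := h1
    exact Nat.le_of_mul_le_mul_left h2 hZpos
  have hseq : s = p ^ b := by
    have h1 : s ≤ p ^ b := by
      have : s ^ 2 ≤ (p ^ b) ^ 2 := by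
        rw [← pow_mul, mul_comm b 2]; exact hleN
      exact (Nat.pow_le_pow_iff_left (by norm_num)).mp this
    exact Nat.le_antisymm h1 (Nat.le_of_dvd (Nat.pos_of_ne_zero hs0) hdvd)
  subst hseq
  refine ⟨hres, ?_⟩
  rw [rel_vanishes_off_iff hZS ψ, irr_inner_self hψ, hres, classInner_smul_left,
    classInner_smul_right, irr_inner_self hθ, hS]
  push_cast
  simp only [map_pow, Complex.conj_natCast]
  ring

end Cfsg.Agent.Lib.Helper16.FR
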