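import Cfsg.Agent.Lib.Helper15.FullyRam
import Cfsg.Agent.Lib.Helper15.RelGl1
import Cfsg.Agent.S0886

/-!
# Fully ramified characters farm: piece B (Clifford count)
-/

set_option autoImplicit false

namespace Cfsg.Agent.Lib.Helper16.FR

open Cfsg Cfsg.Agent.Lib Cfsg.Agent.Lib.Helper15
open scoped ComplexConjugate

variable {Y : Type*} [Group Y] [Fintype Y]

theorem norm_sum_irr {X : Type*} [Group X] [Fintype X] (F : Finset (X → ℂ))
    (hF : ∀ φ ∈ F, IsIrrCharacter X φ) :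
    classInner (∑ φ ∈ F, φ) (∑ φ ∈ F, φ) = F.card := by
  classical
  rw [classInner_sum_left]
  have : ∀ φ ∈ F, classInner φ (∑ φ' ∈ F, φ') = 1 := by
    intro φ hφ
    rw [classInner_sum_right, Finset.sum_eq_single φ]
    · exact irr_inner_self (hF φ hφ)
    · intro φ' hφ' hne
      exact irr_inner_ne (hF φ hφ) (hF φ' hφ') hne.symm
    · intro h; exact absurd hφ h
  rw [Finset.sum_congr rfl this]
  simp

/-- every irreducible character of `D` over `θ` lies under `ψ` -/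
theorem under_of_over {Z D S : Subgroup Y} [Fintype Z] [Fintype D] [Fintype S]
    (hZD : Z ≤ D) (hDS : D ≤ S) {θ : Z → ℂ} (hθ : IsIrrCharacter Z θ)
    {ψ : S → ℂ}
    (huniq : ∀ ψ' : S → ℂ, IsIrrCharacter S ψ' →
      classInner (resFun (hZD.trans hDS) ψ') θ ≠ 0 → ψ' = ψ)
    {ξ' : D → ℂ} (hξ' : IsIrrCharacter D ξ') (hξθ : classInner (resFun hZD ξ') θ ≠ 0) :
    classInner (resFun hDS ψ) ξ' ≠ 0 := by
  have hch : IsCharacter S (relInd D S ξ') := char_relInd hDS (irr_char hξ')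
  have hne : relInd D S ξ' ≠ 0 := by
    intro h
    have h1 := relInd_one (T := D) (K := S) ξ'
    rw [h] at h1
    have h2 : (D.relIndex S : ℂ) ≠ 0 := by
      have : D.relIndex S ≠ 0 := by
        show (D.subgroupOf S).index ≠ 0
        exact Subgroup.index_ne_zero_of_finite
      exact_mod_cast this
    exact (mul_ne_zero h2 (irr_one_ne_zero hξ')) h1.symm
  obtain ⟨ψ', hψ', hin⟩ := exists_constituent hch hne
  rw [classInner_relInd_left hDS ξ' (irr_cf hψ')] at hin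
  have hin' : classInner (resFun hDS ψ') ξ' ≠ 0 := by
    rw [inner_comm_of_char (char_resFun hDS (irr_char hψ')) (irr_char hξ')]
    exact hin
  have hover : classInner (resFun (hZD.trans hDS) ψ') θ ≠ 0 :=
    inner_ne_zero_of_constituent (resFunLin hZD) (fun γ hγ => char_resFun hZD hγ)
      (char_resFun hDS (irr_char hψ')) hξ' hin' (irr_char hθ) hξθ
  rw [← huniq ψ' hψ' hover]
  exact hin'

/-- PIECE B (Clifford count). -/
theorem orbit_count {Z D S : Subgroup Y} [Z.Normal] [D.Normal] [Fintype Z] [Fintype D] [Fintype S]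
    [DecidableEq (D → ℂ)] (hZD : Z ≤ D) (hDS : D ≤ S) {θ : Z → ℂ} (hθ : IsIrrCharacter Z θ)
    {ψ : S → ℂ} (hψ : IsIrrCharacter S ψ)
    (huniq : ∀ ψ' : S → ℂ, IsIrrCharacter S ψ' →
      classInner (resFun (hZD.trans hDS) ψ') θ ≠ 0 → ψ' = ψ)
    (hψ0 : ∀ x : S, (x : Y) ∉ Z → ψ x = 0)
    {ξ : D → ℂ} (hξ : IsIrrCharacter D ξ) (hξθ : classInner (resFun hZD ξ) θ ≠ 0) :
    (∀ ξ' : D → ℂ, IsIrrCharacter D ξ' → classInner (resFun hZD ξ') θ ≠ 0 →
      ∃ k : S, ξ' = cj D (k : Y) ξ) ∧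
    ∃ f : ℕ, classInner (resFun hDS ψ) ξ = f ∧ f ≠ 0 ∧
      f ^ 2 * (Finset.univ.image (fun k : S => cj D (k : Y) ξ)).card * Nat.card D = Nat.card S ∧
      ψ 1 = f * (Finset.univ.image (fun k : S => cj D (k : Y) ξ)).card * ξ 1 := by
  have h1 : classInner (resFun hDS ψ) ξ ≠ 0 := under_of_over hZD hDS hθ huniq hξ hξθ
  refine ⟨?_, ?_⟩
  · intro ξ' hξ' hξ'θ
    exact rel_clifford_conj hDS hψ hξ hξ' h1 (under_of_over hZD hDS hθ huniq hξ' hξ'θ)
  obtain ⟨f, hf⟩ := inner_nat (char_resFun hDS (irr_char hψ)) (irr_char hξ)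
  have hf0 : f ≠ 0 := by
    rintro rfl
    apply h1
    rw [hf]; simp
  have hcl := rel_clifford_theorem hDS hψ hξ h1
  rw [hf] at hcl
  set F := Finset.univ.image (fun k : S => cj D (k : Y) ξ) with hF
  have hFirr : ∀ φ ∈ F, IsIrrCharacter D φ := by
    intro φ hφ
    obtain ⟨k, -, rfl⟩ := Finset.mem_image.1 hφ
    exact irr_cj D _ hξ
  refine ⟨f, hf, hf0, ?_, ?_⟩
  · have hv : ∀ k : S, (k : Y) ∉ D → ψ k = 0 := fun k hk => hψ0 k (fun h => hk (hZD h))
    have h2 := (rel_vanishes_off_iff hDS ψ).mp hv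
    rw [irr_inner_self hψ, hcl, classInner_smul_left, classInner_smul_right, norm_sum_irr F hFirr,
      Complex.conj_natCast] at h2
    have h3 : ((f ^ 2 * F.card * Nat.card D : ℕ) : ℂ) = (Nat.card S : ℂ) := by
      push_cast
      rw [mul_one] at h2
      rw [h2]
      ring
    exact_mod_cast h3
  · have h2 : ψ 1 = resFun hDS ψ 1 := rfl
    rw [h2, hcl]
    simp only [Pi.smul_apply, Finset.sum_apply, smul_eq_mul]
    have h3 : ∀ φ ∈ F, φ 1 = ξ 1 := by
      intro φ hφ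
      obtain ⟨k, -, rfl⟩ := Finset.mem_image.1 hφ
      exact cj_apply_one D _ ξ
    rw [Finset.sum_congr rfl h3]
    simp
    ring

end Cfsg.Agent.Lib.Helper16.FR
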