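import Mathlib
import Cfsg.Agent.Lib.Helper16.Transport

/-!
# Transport of blocks, idempotent coefficients and defect groups along isomorphisms (helper16)
-/

set_option autoImplicit false

namespace Cfsg.Agent.Lib.Helper16

open Cfsg Cfsg.Agent.Lib.Helper78
open scoped ComplexConjugate

section equiv

variable {A B : Type*} [Group A] [Group B] [Fintype A] [Fintype B] (e : A ≃* B)

theorem classInd_comp_equiv (a : A) : classInd (e a) ∘ e = classInd a := by
  classical
  funext x
  simp only [classInd, Function.comp_apply]
  have : IsConj (e a) (e x) ↔ IsConj a x := by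
    constructor
    · intro h
      have := e.symm.toMonoidHom.map_isConj h
      simpa using this
    · intro h
      exact e.toMonoidHom.map_isConj h
  simp only [this]

theorem centralChar_irrCongr (χ : IrrCharacter B) (a : A) :
    centralChar (irrCongr e χ : A → ℂ) a = centralChar (χ : B → ℂ) (e a) := by
  rw [← omega_classInd (irr_isClassFunction _), ← omega_classInd (irr_isClassFunction _),
    ← omega_comp_equiv e, classInd_comp_equiv]
  rfl

theorem blockCoeff_irrCongr (S : Set (IrrCharacter B)) (a : A) :
    blockCoeff (irrCongr e '' S) a = blockCoeff S (e a) := by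
  unfold blockCoeff
  rw [Nat.card_congr e.toEquiv, finsum_mem_image (irrCongr e).injective.injOn]
  simp only [irrCongr_apply, map_one]

variable (M : Ideal AlgInt) [hMm : M.IsMaximal]

theorem blockOf_irrCongr (χ : IrrCharacter B) :
    blockOf M (irrCongr e χ : A → ℂ) = irrCongr e '' blockOf M (χ : B → ℂ) := by
  ext ψ
  constructor
  · intro h
    refine ⟨(irrCongr e).symm ψ, ?_, by simp⟩
    show SameBlock M _ _
    rw [← sameBlock_irrCongr_iff e, Equiv.apply_symm_apply]
    exact h
  · rintro ⟨ψ, hψ, rfl⟩
    exact (sameBlock_irrCongr_iff e M χ ψ).2 hψ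

theorem isPBlock_irrCongr {S : Set (IrrCharacter B)} (h : IsPBlock M S) :
    IsPBlock M (irrCongr e '' S) := by
  obtain ⟨χ, rfl⟩ := h
  exact ⟨irrCongr e χ, (blockOf_irrCongr e M χ).symm⟩

omit hMm in
theorem isDefectClass_irrCongr {S : Set (IrrCharacter B)} {a : A}
    (h : IsDefectClass M S (e a)) : IsDefectClass M (irrCongr e '' S) a := by
  obtain ⟨h1, h2, h3⟩ := h
  refine ⟨by rwa [blockCoeff_irrCongr], by rwa [blockCoeff_irrCongr], ?_⟩
  rintro _ ⟨χ, hχ, rfl⟩
  rw [centralChar_irrCongr]
  exact h3 χ hχ

theorem centralizer_comap_equiv (a : A) :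
    (Subgroup.centralizer ({e a} : Set B)).comap e.toMonoidHom =
      Subgroup.centralizer ({a} : Set A) := by
  ext x
  rw [Subgroup.mem_comap, Subgroup.mem_centralizer_singleton_iff,
    Subgroup.mem_centralizer_singleton_iff]
  constructor
  · intro h
    apply e.injective
    simpa using h
  · intro h
    have := congrArg e h
    simpa using this

theorem card_comap_equiv (D : Subgroup B) : Nat.card (D.comap e.toMonoidHom) = Nat.card D :=
  Nat.card_congr (e.toEquiv.subtypeEquiv (fun _ => Iff.rfl))

omit hMm in
theorem isDefectGroup_irrCongr (p : ℕ) [Fact p.Prime] {S : Set (IrrCharacter B)} {D : Subgroup B}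
    (h : IsDefectGroup p M S D) : IsDefectGroup p M (irrCongr e '' S) (D.comap e.toMonoidHom) := by
  rw [isDefectGroup_iff] at h ⊢
  obtain ⟨g, hg, hle, hcard⟩ := h
  refine ⟨e.symm g, isDefectClass_irrCongr e M (by simpa using hg), ?_, ?_⟩
  · rw [← centralizer_comap_equiv e, e.apply_symm_apply]
    exact Subgroup.comap_mono hle
  · rw [← centralizer_comap_equiv e, e.apply_symm_apply, card_comap_equiv, card_comap_equiv, hcard]

end equiv

end Cfsg.Agent.Lib.Helper16
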