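import Mathlib
import Cfsg.Agent.Lib.Helper16.Transport2

/-!
# Brauer's first main theorem in terms of idempotents (helper16)
-/

set_option autoImplicit false

namespace Cfsg.Agent.Lib.Helper16

open Cfsg Cfsg.Agent.Lib.Helper78

theorem idem_eq_of_isNilpotent_sub {R : Type*} [CommRing R] {z w : R} (hz : z * z = z)
    (hw : w * w = w) (hn : IsNilpotent (z - w)) : z = w := by
  have h3 : (z - w) * ((z - w) * (z - w)) = z - w := by
    have e1 : (z - w) * ((z - w) * (z - w)) =
        z * z * z - 3 * (z * z) * w + 3 * z * (w * w) - w * w * w := by ring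
    rw [e1, hz, hz, hw, hw]
    ring
  obtain ⟨n, hn⟩ := hn
  have key : ∀ k : ℕ, (z - w) ^ (2 * k + 1) = z - w := by
    intro k
    induction k with
    | zero => simp
    | succ k ih =>
      have : (z - w) ^ (2 * (k + 1) + 1) = (z - w) ^ (2 * k + 1) * ((z - w) * (z - w)) := by ring
      rw [this, ih, h3]
  have h0 : (z - w) ^ (2 * n + 1) = 0 := by
    have : (z - w) ^ (2 * n + 1) = (z - w) ^ n * (z - w) ^ (n + 1) := by ring
    rw [this, hn, zero_mul]
  rw [key] at h0
  exact sub_eq_zero.1 h0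

section

variable {G : Type*} [Group G] [Fintype G]
variable (M : Ideal AlgInt) [hMm : M.IsMaximal]

/-- idempotents of `Z(FG)` are determined by the central characters -/
theorem idem_eq_of_lam_eq {z w : Zc (FM M) G} (hz : z * z = z) (hw : w * w = w)
    (h : ∀ χ : IrrCharacter G, lam M χ z = lam M χ w) : z = w := by
  have hn : IsNilpotent (z - w) := isNilpotent_of_lam_eq_zero M (fun χ => by
    rw [map_sub, h, sub_self])
  exact idem_eq_of_isNilpotent_sub hz hw hn

theorem block_eq_of_mem {b b' : Set (IrrCharacter G)} (hb : IsPBlock M b) (hb' : IsPBlock M b')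
    {ξ : IrrCharacter G} (h : ξ ∈ b) (h' : ξ ∈ b') : b = b' := by
  rw [block_eq_blockOf M hb h, block_eq_blockOf M hb' h']

theorem block_eq_of_eB_eq {b b' : Set (IrrCharacter G)} (hb : IsPBlock M b) (hb' : IsPBlock M b')
    (h : eB M b = eB M b') : b = b' := by
  classical
  obtain ⟨ξ, hξ⟩ := block_nonempty M hb
  have h1 := lam_eB M hb ξ
  rw [h, lam_eB M hb', if_pos hξ] at h1
  have h2 : ξ ∈ b' := by
    by_contra hne
    rw [if_neg hne] at h1
    exact zero_ne_one h1
  exact block_eq_of_mem M hb hb' hξ h2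

variable (H : Subgroup G) [Fintype H]

theorem induced_unique {b : Set (IrrCharacter H)} {B B' : Set (IrrCharacter G)}
    (h : IsInducedBlock M H b B) (h' : IsInducedBlock M H b B') : B = B' := by
  obtain ⟨ξ, hξ⟩ := block_nonempty M h.1
  obtain ⟨χ, hχ⟩ := block_nonempty M h.2.1
  obtain ⟨χ', hχ'⟩ := block_nonempty M h'.2.1
  have h1 := (isInducedBlock_iff M H h.1 h.2.1 hξ hχ).1 h
  have h2 := (isInducedBlock_iff M H h'.1 h'.2.1 hξ hχ').1 h'
  have h3 : lam M χ = lam M χ' := AlgHom.ext (fun z => by rw [← h1, ← h2])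
  exact block_eq_of_mem M h.2.1 h'.2.1 hχ (mem_block_of_lam_eq M h'.2.1 hχ' h3.symm)

variable (p : ℕ) [Fact p.Prime] [CharP (FM M) p]

/-- the Brauer map sends the idempotent of a block with defect group `P` to the idempotent of its
Brauer correspondent -/
theorem brauerHom_eB (hM : IsPModular p M) {P : Subgroup G} (hP : IsPGroup p P)
    (hHN : H ≤ Subgroup.normalizer (P : Set G)) (hNH : Subgroup.normalizer (P : Set G) ≤ H)
    {b : Set (IrrCharacter H)} {B : Set (IrrCharacter G)} (hind : IsInducedBlock M H b B)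
    (hDb : IsDefectGroup p M b (P.subgroupOf H)) :
    brauerHom p P H hP ((Subgroup.centralizer_le_normalizer _).trans hNH) hHN (eB M B) =
      eB M b := by
  classical
  have hCH : Subgroup.centralizer (P : Set G) ≤ H :=
    (Subgroup.centralizer_le_normalizer _).trans hNH
  have hPH : P ≤ H := Subgroup.le_normalizer.trans hNH
  apply idem_eq_of_lam_eq M
  · rw [← map_mul, eB_mul_self M B hind.2.1]
  · exact eB_mul_self M b hind.1
  intro ξ
  obtain ⟨χ, hχ⟩ := exists_lam_eq_lam_resZ M p hP hPH hCH hHN ξ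
  rw [← lam_resZ_eq_lam_brauerHom M p hP hPH hCH hHN, hχ, lam_eB M hind.2.1, lam_eB M hind.1]
  have hiff : χ ∈ B ↔ ξ ∈ b := by
    constructor
    · intro h
      have h1 : IsInducedBlock M H (blockOf M (ξ : H → ℂ)) B :=
        (isInducedBlock_iff M H ⟨ξ, rfl⟩ hind.2.1 (mem_blockOf_self M ξ) h).2 hχ
      rw [eq_of_induced_of_defect M p H hM hP hHN hNH hind h1 hDb]
      exact mem_blockOf_self M ξ
    · intro h
      obtain ⟨χ', hχ'⟩ := block_nonempty M hind.2.1
      have h1 := (isInducedBlock_iff M H hind.1 hind.2.1 h hχ').1 hind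
      exact mem_block_of_lam_eq M hind.2.1 hχ' (AlgHom.ext (fun z => by rw [← h1, ← hχ]))
  simp only [hiff]

/-- the Brauer correspondence between blocks of `G` and of `H = N_G(P)` with defect group `P` -/
def BrCorr (P : Subgroup G) (B : Set (IrrCharacter G)) (b : Set (IrrCharacter H)) : Prop :=
  IsInducedBlock M H b B ∧ IsDefectGroup p M B P ∧ IsDefectGroup p M b (P.subgroupOf H) ∧
    ∀ y : H, (eB M b).1.coeff y =
      by classical exact if (y : G) ∈ Subgroup.centralizer (P : Set G) then (eB M B).1.coeff (y : G) else 0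

theorem BrCorr.of_induced (hM : IsPModular p M) {P : Subgroup G} (hP : IsPGroup p P)
    (hHN : H ≤ Subgroup.normalizer (P : Set G)) (hNH : Subgroup.normalizer (P : Set G) ≤ H)
    {b : Set (IrrCharacter H)} {B : Set (IrrCharacter G)} (hind : IsInducedBlock M H b B)
    (hDB : IsDefectGroup p M B P) (hDb : IsDefectGroup p M b (P.subgroupOf H)) :
    BrCorr M H p P B b := by
  refine ⟨hind, hDB, hDb, fun y => ?_⟩
  rw [← brauerHom_eB M H p hM hP hHN hNH hind hDb, brauerHom_coeff]
  simp only [brauerFun, ofFun_coeff]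

theorem exists_brCorr_of_block (hM : IsPModular p M) {P : Subgroup G}
    (hHN : H ≤ Subgroup.normalizer (P : Set G)) (hNH : Subgroup.normalizer (P : Set G) ≤ H)
    {B : Set (IrrCharacter G)} (hB : IsPBlock M B) (hDB : IsDefectGroup p M B P) :
    ∃ b, BrCorr M H p P B b := by
  have hP := IsDefectGroup.isPGroup hDB
  have hCH : Subgroup.centralizer (P : Set G) ≤ H :=
    (Subgroup.centralizer_le_normalizer _).trans hNH
  have hPH : P ≤ H := Subgroup.le_normalizer.trans hNH
  obtain ⟨b, hb⟩ := exists_induced_of_le_defect M p H hM hP hPH hCH hHN hB hDB le_rfl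
  exact ⟨b, BrCorr.of_induced M H p hM hP hHN hNH hb hDB
    (isDefectGroup_subgroupOf_of_induced M p H hM hPH hHN hb hDB)⟩

theorem exists_brCorr_of_local (hM : IsPModular p M) {P : Subgroup G} (hP : IsPGroup p P)
    (hHN : H ≤ Subgroup.normalizer (P : Set G)) (hNH : Subgroup.normalizer (P : Set G) ≤ H)
    {b : Set (IrrCharacter H)} (hb : IsPBlock M b) (hDb : IsDefectGroup p M b (P.subgroupOf H)) :
    ∃ B, BrCorr M H p P B b := by
  have hCH : Subgroup.centralizer (P : Set G) ≤ H :=
    (Subgroup.centralizer_le_normalizer _).trans hNH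
  have hPH : P ≤ H := Subgroup.le_normalizer.trans hNH
  obtain ⟨ξ, hξ⟩ := block_nonempty M hb
  obtain ⟨χ, hχ⟩ := exists_lam_eq_lam_resZ M p hP hPH hCH hHN ξ
  have hind : IsInducedBlock M H b (blockOf M (χ : G → ℂ)) :=
    (isInducedBlock_iff M H hb ⟨χ, rfl⟩ hξ (mem_blockOf_self M χ)).2 hχ
  exact ⟨_, BrCorr.of_induced M H p hM hP hHN hNH hind
    (isDefectGroup_of_induced M p H hM hP hHN hNH hind hDb) hDb⟩

omit [CharP (FM M) p] in
theorem BrCorr.local_unique {P : Subgroup G} {B B' : Set (IrrCharacter G)}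
    {b b' : Set (IrrCharacter H)} (h : BrCorr M H p P B b) (h' : BrCorr M H p P B' b')
    (hc : ∀ x ∈ Subgroup.centralizer (P : Set G), (eB M B).1.coeff x = (eB M B').1.coeff x) :
    b = b' := by
  apply block_eq_of_eB_eq M h.1.1 h'.1.1
  apply Subtype.ext
  apply ext_coeff
  intro y
  rw [h.2.2.2 y, h'.2.2.2 y]
  by_cases hy : (y : G) ∈ Subgroup.centralizer (P : Set G)
  · rw [if_pos hy, if_pos hy, hc _ hy]
  · rw [if_neg hy, if_neg hy]

end

end Cfsg.Agent.Lib.Helper16
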