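import Mathlib
import Cfsg.Agent.Lib.Helper16.FirstMain2
import Cfsg.Agent.Lib.Helper16.OrbitSum
import Cfsg.Agent.Lib.Helper78.DimBlock
import Cfsg.Agent.Lib.Helper78.HeightZero
import Cfsg.Agent.Lib.Helper78.WeakOrth

/-!
# Green's theorem on defect groups as Sylow intersections (helper16)
-/

set_option autoImplicit false

namespace Cfsg.Agent.Lib.Helper16

open Cfsg Cfsg.Agent.Lib.Helper78
open scoped ComplexConjugate

universe u

section orbits

variable {G : Type u} [Group G] [Fintype G]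

/-- conjugation action of a subgroup on a stable subset -/
@[reducible] def conjActOn (T : Subgroup G) (X : Set G)
    (hX : ∀ t ∈ T, ∀ x ∈ X, t * x * t⁻¹ ∈ X) : MulAction T X where
  smul t x := ⟨t * x * (t : G)⁻¹, hX t t.2 x x.2⟩
  one_smul x := Subtype.ext (by
    show ((1 : T) : G) * x * ((1 : T) : G)⁻¹ = x
    simp)
  mul_smul s t x := Subtype.ext (by
    show ((s * t : T) : G) * x * ((s * t : T) : G)⁻¹ = s * (t * x * (t : G)⁻¹) * (s : G)⁻¹
    simp [mul_assoc])

open Classical in
theorem sum_conj_orbits (T : Subgroup G) (X : Set G)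
    (hX : ∀ t ∈ T, ∀ x ∈ X, t * x * t⁻¹ ∈ X) (f : G → ℂ)
    (hf : ∀ t ∈ T, ∀ x ∈ X, f (t * x * t⁻¹) = f x) :
    ∃ (ι : Type u) (_ : Fintype ι) (r : ι → G), (∀ i, r i ∈ X) ∧
      ∑ w : G, (if w ∈ X then f w else 0) =
        ∑ i, (Nat.card T : ℂ) / (Nat.card (T ⊓ Subgroup.centralizer ({r i} : Set G) : Subgroup G) : ℂ)
          * f (r i) := by
  letI := conjActOn T X hX
  haveI : Fintype (MulAction.orbitRel.Quotient T X) := Fintype.ofFinite _
  refine ⟨MulAction.orbitRel.Quotient T X, inferInstance, fun ω => (ω.out : G),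
    fun ω => ω.out.2, ?_⟩
  have h1 : ∑ w : G, (if w ∈ X then f w else 0) = ∑ x : X, f x := by
    rw [← Finset.sum_filter, Finset.sum_subtype (p := fun w => w ∈ X)]
    intro x
    simp
  rw [h1, sum_eq_sum_orbits (Γ := T) (fun x : X => f x) (fun t x => hf t t.2 x x.2)]
  refine Finset.sum_congr rfl fun ω _ => ?_
  rw [nsmul_eq_mul]
  congr 1
  have h2 : Nat.card (MulAction.orbit T ω.out) * Nat.card (MulAction.stabilizer T ω.out) =
      Nat.card T := by
    rw [Nat.card_eq_fintype_card, Nat.card_eq_fintype_card, Nat.card_eq_fintype_card]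
    exact MulAction.card_orbit_mul_card_stabilizer_eq_card_group T ω.out
  have h3 : Nat.card (MulAction.stabilizer T ω.out) =
      Nat.card (T ⊓ Subgroup.centralizer ({(ω.out : G)} : Set G) : Subgroup G) := by
    apply Nat.card_congr
    refine ⟨fun t => ⟨t.1.1, t.1.2, ?_⟩, fun g => ⟨⟨g.1, g.2.1⟩, ?_⟩, fun t => rfl, fun g => rfl⟩
    · show (t.1 : G) ∈ Subgroup.centralizer ({(ω.out : G)} : Set G)
      rw [Subgroup.mem_centralizer_singleton_iff]
      have := congrArg Subtype.val (MulAction.mem_stabilizer_iff.1 t.2)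
      have h4 : (t.1 : G) * (ω.out : G) * (t.1 : G)⁻¹ = (ω.out : G) := this
      rw [mul_inv_eq_iff_eq_mul] at h4
      exact h4
    · rw [MulAction.mem_stabilizer_iff]
      apply Subtype.ext
      show g.1 * (ω.out : G) * g.1⁻¹ = (ω.out : G)
      rw [mul_inv_eq_iff_eq_mul]
      exact Subgroup.mem_centralizer_singleton_iff.1 g.2.2
  rw [h3] at h2
  have h5 : (Nat.card (T ⊓ Subgroup.centralizer ({(ω.out : G)} : Set G) : Subgroup G) : ℂ) ≠ 0 := by
    exact_mod_cast Nat.card_pos.ne'
  rw [eq_div_iff h5]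
  exact_mod_cast h2

end orbits

section green

variable {G : Type u} [Group G] [Fintype G] {M : Ideal AlgInt} {p : ℕ}

open Classical in
theorem blockCoeff_eq_sum_avg (h : IsPModular p M) {B : Set (IrrCharacter G)}
    (hB : IsPBlock M B) (g : G) (hreg : ¬ p ∣ orderOf g) (D : Subgroup G)
    (hD : IsPGroup p D) (hDg : ∀ u ∈ D, u * g = g * u) :
    blockCoeff B g = ∑ χ : IrrCharacter G, if χ ∈ B then
        (((charDegree (χ : G → ℂ) * Nat.card D : ℕ) : ℂ) / ((Nat.card G : ℕ) : ℂ)) *
          conj ((Nat.card D : ℂ)⁻¹ * ∑ u : G, if u ∈ D then (χ : G → ℂ) (g * u) else 0)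
        else 0 := by
  have E1 : ∑ u : G, (if u ∈ D then blockCoeff B (g * u) else 0) = blockCoeff B g := by
    rw [Finset.sum_eq_single 1]
    · simp [D.one_mem]
    · intro u _ hu1
      split_ifs with hu
      · apply blockCoeff_eq_zero_of_singular h hB
        refine dvd_orderOf_mul_of_regular h.1 hreg ?_ hu1 (hDg u hu)
        obtain ⟨k, hk⟩ := hD ⟨u, hu⟩
        have hk' : u ^ p ^ k = 1 := by
          have := congrArg Subtype.val hk
          simpa using this
        obtain ⟨j, -, hj⟩ := (Nat.dvd_prime_pow h.1).1 (orderOf_dvd_of_pow_eq_one hk')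
        exact ⟨j, hj⟩
      · rfl
    · intro h1; exact absurd (Finset.mem_univ _) h1
  have hcardG : (Fintype.card G : ℂ) ≠ 0 := by exact_mod_cast Fintype.card_ne_zero
  have hcardD : (Nat.card D : ℂ) ≠ 0 := by exact_mod_cast Nat.card_pos.ne'
  rw [← E1]
  simp only [blockCoeff_eq_sum]
  have : ∀ u : G, (if u ∈ D then (Fintype.card G : ℂ)⁻¹ *
      ∑ χ : IrrCharacter G, (if χ ∈ B then (1 : ℂ) else 0) *
        ((χ : G → ℂ) 1 * conj ((χ : G → ℂ) (g * u))) else 0) =
      ∑ χ : IrrCharacter G, (if χ ∈ B then (Fintype.card G : ℂ)⁻¹ * (χ : G → ℂ) 1 *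
        conj (if u ∈ D then (χ : G → ℂ) (g * u) else 0) else 0) := by
    intro u
    split_ifs with hu
    · rw [Finset.mul_sum]
      refine Finset.sum_congr rfl fun χ _ => ?_
      split_ifs <;> ring
    · simp
  simp only [this]
  rw [Finset.sum_comm]
  refine Finset.sum_congr rfl fun χ _ => ?_
  split_ifs with hχ
  · rw [← Finset.mul_sum, ← map_sum, map_mul, map_inv₀, Complex.conj_natCast, irr_one_eq,
      Nat.card_eq_fintype_card (α := G)]
    push_cast
    field_simp
  · simp

/-- the coefficient of a block idempotent at `g` is divisible by `|Q| / p ^ d` for every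
`p`-subgroup `Q` of the centralizer of `g` -/
theorem memLocalRing_blockCoeff_scaled (h : IsPModular p M) {B : Set (IrrCharacter G)}
    (hB : IsPBlock M B) (g : G) (Q : Subgroup G) (hQ : IsPGroup p Q)
    (hQg : ∀ u ∈ Q, u * g = g * u) :
    MemLocalRing M (blockCoeff B g * (((p ^ (Nat.card G).factorization p : ℕ) : ℂ) /
      ((p ^ minDeg p B * Nat.card Q : ℕ) : ℂ))) := by
  classical
  have hM := pmod_isPrime h
  have hp := h.1
  by_cases hreg : p ∣ orderOf g
  · rw [blockCoeff_eq_zero_of_singular h hB g hreg, zero_mul]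
    exact memLocalRing_zero hM
  rw [blockCoeff_eq_sum_avg h hB g hreg Q hQ hQg, Finset.sum_mul]
  refine MemLocalRing.sum hM _ _ fun χ _ => ?_
  split_ifs with hχ
  · have hcardQ : (Nat.card Q : ℂ) ≠ 0 := by exact_mod_cast Nat.card_pos.ne'
    have hcardG : (Nat.card G : ℂ) ≠ 0 := by exact_mod_cast Nat.card_pos.ne'
    have hpc : (p : ℂ) ≠ 0 := by exact_mod_cast hp.ne_zero
    have e1 : (((charDegree (χ : G → ℂ) * Nat.card Q : ℕ) : ℂ) / ((Nat.card G : ℕ) : ℂ)) *
          conj ((Nat.card Q : ℂ)⁻¹ * ∑ u : G, if u ∈ Q then (χ : G → ℂ) (g * u) else 0) *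
        (((p ^ (Nat.card G).factorization p : ℕ) : ℂ) / ((p ^ minDeg p B * Nat.card Q : ℕ) : ℂ)) =
        (((charDegree (χ : G → ℂ) * p ^ (Nat.card G).factorization p : ℕ) : ℂ) /
          ((Nat.card G * p ^ minDeg p B : ℕ) : ℂ)) *
          conj ((Nat.card Q : ℂ)⁻¹ * ∑ u : G, if u ∈ Q then (χ : G → ℂ) (g * u) else 0) := by
      push_cast
      field_simp
    rw [e1]
    refine MemLocalRing.mul hM ?_ ?_
    · refine memLocalRing_natCast_div h (mul_ne_zero Nat.card_pos.ne' (pow_ne_zero _ hp.ne_zero)) ?_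
      rw [Nat.factorization_mul Nat.card_pos.ne' (pow_ne_zero _ hp.ne_zero),
        Nat.factorization_mul (irr_charDegree_pos χ).ne' (pow_ne_zero _ hp.ne_zero)]
      simp only [Finsupp.add_apply, hp.factorization_pow, Finsupp.single_eq_same]
      have := minDeg_le (p := p) hχ
      omega
    · refine memLocalRing_of_isIntegral hM ?_
      exact map_isIntegral_int (starRingEnd ℂ)
        (isIntegral_avg_char (Helper74.IrrCharacter.isCharacter χ) Q g hQg)
  · rw [zero_mul]; exact memLocalRing_zero hM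

open Classical in
/-- the sum of the idempotent coefficients over the coset `x⁻¹ P` -/
noncomputable def cosetSum (B : Set (IrrCharacter G)) (P : Subgroup G) (x : G) : ℂ :=
  ∑ w : G, if x * w ∈ P then blockCoeff B w else 0

theorem cosetSum_mem (hM : M.IsPrime) {B : Set (IrrCharacter G)} (hB : IsPBlock M B)
    (P : Subgroup G) (x : G) : MemLocalRing M (cosetSum B P x) := by
  classical
  refine MemLocalRing.sum hM _ _ fun w _ => ?_
  split_ifs
  · exact memLocalRing_blockCoeff hM hB w
  · exact memLocalRing_zero hM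

theorem cosetSum_conj (B : Set (IrrCharacter G)) (P : Subgroup G) (x : G) {t : G} (ht : t ∈ P) :
    cosetSum B P (t * x * t⁻¹) = cosetSum B P x := by
  classical
  unfold cosetSum
  rw [← Equiv.sum_comp (MulAut.conj t).toEquiv]
  refine Finset.sum_congr rfl fun w _ => ?_
  have h1 : (MulAut.conj t).toEquiv w = t * w * t⁻¹ := rfl
  rw [h1, blockCoeff_isClassFunction B w t]
  have h2 : t * x * t⁻¹ * (t * w * t⁻¹) = t * (x * w) * t⁻¹ := by group
  have h3 : t * (x * w) * t⁻¹ ∈ P ↔ x * w ∈ P := by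
    constructor
    · intro h
      have := P.mul_mem (P.mul_mem (P.inv_mem ht) h) ht
      simpa [mul_assoc] using this
    · intro h
      exact P.mul_mem (P.mul_mem ht h) (P.inv_mem ht)
  simp only [h2, h3]

theorem blockCoeff_one_eq_sum (h : IsPModular p M) {B : Set (IrrCharacter G)}
    (hB : IsPBlock M B) (P : Subgroup G) (hP : IsPGroup p P) :
    blockCoeff B 1 = ∑ x : G, blockCoeff B x * cosetSum B P x := by
  classical
  have h1 : ∀ x : G, blockCoeff B x * cosetSum B P x =
      ∑ u : G, if u ∈ P then blockCoeff B x * blockCoeff B (x⁻¹ * u) else 0 := by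
    intro x
    unfold cosetSum
    rw [Finset.mul_sum, ← Equiv.sum_comp (Equiv.mulLeft x⁻¹)]
    refine Finset.sum_congr rfl fun u _ => ?_
    simp only [Equiv.coe_mulLeft, mul_inv_cancel_left, mul_ite, mul_zero]
  simp only [h1]
  rw [Finset.sum_comm]
  have h2 : ∀ u : G, (∑ x : G, if u ∈ P then blockCoeff B x * blockCoeff B (x⁻¹ * u) else 0) =
      if u ∈ P then blockCoeff B u else 0 := by
    intro u
    split_ifs with hu
    · exact congrFun (conv_blockCoeff_self B) u
    · simp
  simp only [h2]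
  rw [Finset.sum_eq_single 1]
  · simp [P.one_mem]
  · intro u _ hu1
    split_ifs with hu
    · apply blockCoeff_eq_zero_of_singular h hB
      obtain ⟨k, hk⟩ := hP ⟨u, hu⟩
      have hk' : u ^ p ^ k = 1 := by
        have := congrArg Subtype.val hk
        simpa using this
      obtain ⟨j, -, hj⟩ := (Nat.dvd_prime_pow h.1).1 (orderOf_dvd_of_pow_eq_one hk')
      rw [hj]
      apply dvd_pow_self
      rintro rfl
      rw [pow_zero, orderOf_eq_one_iff] at hj
      exact hu1 hj
    · rfl
  · intro h1; exact absurd (Finset.mem_univ _) h1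

theorem not_memLocalIdeal_blockCoeff_one (h : IsPModular p M) {B : Set (IrrCharacter G)}
    (hB : IsPBlock M B) :
    ¬ MemLocalIdeal M (blockCoeff B 1 / ((p ^ minDeg p B : ℕ) : ℂ)) := by
  classical
  have hp := h.1
  have hM := pmod_isPrime h
  have h1 := factorization_sum_sq h hB
  set N : ℕ := ∑ χ : IrrCharacter G, if χ ∈ B then charDegree (χ : G → ℂ) ^ 2 else 0 with hN
  have hN0 : N ≠ 0 := by
    obtain ⟨χ, hχ⟩ := IsPBlock.nonempty hM hB
    have : 0 < N := by
      rw [hN]
      apply Finset.sum_pos'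
      · intro _ _; positivity
      · exact ⟨χ, Finset.mem_univ _, by rw [if_pos hχ]; exact pow_pos (irr_charDegree_pos χ) 2⟩
    exact this.ne'
  have e1 : blockCoeff B 1 / ((p ^ minDeg p B : ℕ) : ℂ) =
      (N : ℂ) / ((Nat.card G * p ^ minDeg p B : ℕ) : ℂ) := by
    rw [blockCoeff_eq_sum, hN, Nat.card_eq_fintype_card]
    push_cast
    rw [div_mul_eq_div_div, inv_mul_eq_div]
    congr 2
    refine Finset.sum_congr rfl fun χ _ => ?_
    split_ifs
    · rw [irr_one_eq, Complex.conj_natCast]; ring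
    · simp
  rw [e1]
  refine not_memLocalIdeal_natCast_div h hN0
    (mul_ne_zero Nat.card_pos.ne' (pow_ne_zero _ hp.ne_zero)) ?_
  rw [h1, Nat.factorization_mul Nat.card_pos.ne' (pow_ne_zero _ hp.ne_zero)]
  simp only [Finsupp.add_apply, hp.factorization_pow, Finsupp.single_eq_same]
  rfl

/-- the coset sum is divisible by `|P ∩ x⁻¹ P x| / p ^ d` -/
theorem memLocalRing_cosetSum_scaled (h : IsPModular p M) {B : Set (IrrCharacter G)}
    (hB : IsPBlock M B) (P : Subgroup G) (hP : IsPGroup p P) (x : G) :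
    MemLocalRing M (cosetSum B P x * (((p ^ (Nat.card G).factorization p : ℕ) : ℂ) /
      ((p ^ minDeg p B * Nat.card (P ⊓ cj x⁻¹ P : Subgroup G) : ℕ) : ℂ))) := by
  classical
  have hM := pmod_isPrime h
  obtain ⟨ι, _, r, hr, hsum⟩ := sum_conj_orbits (P ⊓ cj x⁻¹ P) {w : G | x * w ∈ P}
    (by
      intro t ht w hw
      have ht1 : t ∈ P := ht.1
      have ht2 : t ∈ cj x⁻¹ P := ht.2
      rw [mem_cj, inv_inv] at ht2
      have e : x * (t * w * t⁻¹) = (x * t * x⁻¹) * (x * w) * t⁻¹ := by group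
      show x * (t * w * t⁻¹) ∈ P
      rw [e]
      exact P.mul_mem (P.mul_mem ht2 hw) (P.inv_mem ht1))
    (blockCoeff B) (fun t _ w _ => blockCoeff_isClassFunction B w t)
  have e0 : cosetSum B P x = ∑ w : G, if w ∈ {w : G | x * w ∈ P} then blockCoeff B w else 0 := rfl
  rw [e0, hsum, Finset.sum_mul]
  refine MemLocalRing.sum hM _ _ fun i _ => ?_
  have hc1 : (Nat.card (P ⊓ cj x⁻¹ P : Subgroup G) : ℂ) ≠ 0 := by
    exact_mod_cast Nat.card_pos.ne'
  have hc2 : (Nat.card ((P ⊓ cj x⁻¹ P) ⊓ Subgroup.centralizer ({r i} : Set G) : Subgroup G) : ℂ)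
      ≠ 0 := by exact_mod_cast Nat.card_pos.ne'
  have hpc : (p : ℂ) ≠ 0 := by exact_mod_cast h.1.ne_zero
  have e1 : (Nat.card (P ⊓ cj x⁻¹ P : Subgroup G) : ℂ) /
      (Nat.card ((P ⊓ cj x⁻¹ P) ⊓ Subgroup.centralizer ({r i} : Set G) : Subgroup G) : ℂ) *
      blockCoeff B (r i) * (((p ^ (Nat.card G).factorization p : ℕ) : ℂ) /
      ((p ^ minDeg p B * Nat.card (P ⊓ cj x⁻¹ P : Subgroup G) : ℕ) : ℂ)) =
      blockCoeff B (r i) * (((p ^ (Nat.card G).factorization p : ℕ) : ℂ) /
      ((p ^ minDeg p B * Nat.card ((P ⊓ cj x⁻¹ P) ⊓ Subgroup.centralizer ({r i} : Set G) :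
        Subgroup G) : ℕ) : ℂ)) := by
    push_cast
    field_simp
  rw [e1]
  refine memLocalRing_blockCoeff_scaled h hB (r i) _ (hP.to_le (inf_le_left.trans inf_le_left)) ?_
  intro u hu
  exact Subgroup.mem_centralizer_singleton_iff.1 hu.2

/-- **Green's theorem**, weak form. -/
theorem green_weak [Fact p.Prime] (h : IsPModular p M) {B : Set (IrrCharacter G)}
    (hB : IsPBlock M B) (P : Sylow p G) :
    ∃ x : G, ¬ MemLocalIdeal M (blockCoeff B x) ∧
      ((P : Subgroup G) ⊓ cj x P ≤ Subgroup.centralizer ({x} : Set G)) ∧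
      Nat.card ((P : Subgroup G) ⊓ cj x P : Subgroup G) = p ^ blockDefect p B := by
  classical
  have hM := pmod_isPrime h
  have hp := h.1
  have hPp : IsPGroup p (P : Subgroup G) := P.isPGroup'
  set a := (Nat.card G).factorization p with ha
  set mn := minDeg p B with hmn
  have hPcard : Nat.card (P : Subgroup G) = p ^ a := P.card_eq_multiplicity
  have hpc : (p : ℂ) ≠ 0 := by exact_mod_cast hp.ne_zero
  obtain ⟨ι, _, r, -, hsum⟩ := sum_conj_orbits (P : Subgroup G) Set.univ
    (fun _ _ _ _ => Set.mem_univ _) (fun x => blockCoeff B x * cosetSum B P x)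
    (fun t ht x _ => by
      show blockCoeff B (t * x * t⁻¹) * cosetSum B P (t * x * t⁻¹) = _
      rw [blockCoeff_isClassFunction B x t, cosetSum_conj B P x ht])
  simp only [Set.mem_univ, if_true] at hsum
  rw [← blockCoeff_one_eq_sum h hB P hPp] at hsum
  have hunit := not_memLocalIdeal_blockCoeff_one h hB
  rw [hsum, Finset.sum_div, ← hmn] at hunit
  have hex : ∃ i, ¬ MemLocalIdeal M ((Nat.card (P : Subgroup G) : ℂ) /
      (Nat.card ((P : Subgroup G) ⊓ Subgroup.centralizer ({r i} : Set G) : Subgroup G) : ℂ) *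
      (blockCoeff B (r i) * cosetSum B P (r i)) / ((p ^ mn : ℕ) : ℂ)) := by
    by_contra hcon
    push Not at hcon
    exact hunit (MemLocalIdeal.sum hM _ _ fun i _ => hcon i)
  obtain ⟨i, hi⟩ := hex
  set x := r i with hx
  set C : Subgroup G := (P : Subgroup G) ⊓ Subgroup.centralizer ({x} : Set G) with hC
  have hCp : IsPGroup p C := hPp.to_le inf_le_left
  have hcC : (Nat.card C : ℂ) ≠ 0 := by exact_mod_cast Nat.card_pos.ne'
  have e1 : (Nat.card (P : Subgroup G) : ℂ) / (Nat.card C : ℂ) *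
      (blockCoeff B x * cosetSum B P x) / ((p ^ mn : ℕ) : ℂ) =
      (blockCoeff B x * (((p ^ a : ℕ) : ℂ) / ((p ^ mn * Nat.card C : ℕ) : ℂ))) *
        cosetSum B P x := by
    rw [hPcard]
    push_cast
    field_simp
  rw [e1] at hi
  have hA := memLocalRing_blockCoeff_scaled h hB x C hCp
    (fun u hu => Subgroup.mem_centralizer_singleton_iff.1 hu.2)
  have hβ := cosetSum_mem hM hB (P : Subgroup G) x
  have hA' : ¬ MemLocalIdeal M (blockCoeff B x *
      (((p ^ a : ℕ) : ℂ) / ((p ^ mn * Nat.card C : ℕ) : ℂ))) :=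
    fun hh => hi (MemLocalIdeal.mul_right hM hh hβ)
  have hβ' : ¬ MemLocalIdeal M (cosetSum B P x) :=
    fun hh => hi (MemLocalIdeal.mul_left hM hA hh)
  set T : Subgroup G := (P : Subgroup G) ⊓ cj x⁻¹ P with hT
  have hTp : IsPGroup p T := hPp.to_le inf_le_left
  have hF := memLocalRing_cosetSum_scaled h hB (P : Subgroup G) hPp x
  obtain ⟨c, hc⟩ := hCp.exists_card_eq
  obtain ⟨t, ht⟩ := hTp.exists_card_eq
  have hCT : C ≤ T := by
    intro g hg
    have hg1 : g ∈ (P : Subgroup G) := hg.1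
    have hg2 : g ∈ Subgroup.centralizer ({x} : Set G) := hg.2
    refine ⟨hg1, ?_⟩
    show g ∈ cj x⁻¹ (P : Subgroup G)
    rw [mem_cj, inv_inv]
    rw [Subgroup.mem_centralizer_singleton_iff] at hg2
    have : x * g * x⁻¹ = g := by rw [← hg2]; group
    rw [this]; exact hg1
  have hct : c ≤ t := by
    have := Subgroup.card_le_of_le hCT
    rw [hc, ht] at this
    exact (Nat.pow_le_pow_iff_right hp.one_lt).1 this
  have h1 : a ≤ mn + c := by
    by_contra hlt
    push Not at hlt
    apply hA'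
    refine MemLocalIdeal.mul_left hM (memLocalRing_blockCoeff hM hB x) ?_
    refine memLocalIdeal_natCast_div h (mul_ne_zero (pow_ne_zero _ hp.ne_zero) Nat.card_pos.ne') ?_
    rw [hc, ← pow_add, hp.factorization_pow, hp.factorization_pow]
    simpa using hlt
  have h2 : mn + t ≤ a := by
    by_contra hlt
    push Not at hlt
    apply hβ'
    have e2 : cosetSum B P x = cosetSum B P x * (((p ^ a : ℕ) : ℂ) /
        ((p ^ mn * Nat.card T : ℕ) : ℂ)) * (((p ^ mn * Nat.card T : ℕ) : ℂ) / ((p ^ a : ℕ) : ℂ)) := by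
      have hcT : (Nat.card T : ℂ) ≠ 0 := by exact_mod_cast Nat.card_pos.ne'
      push_cast
      field_simp
    rw [e2]
    refine MemLocalIdeal.mul_left hM hF ?_
    refine memLocalIdeal_natCast_div h (pow_ne_zero _ hp.ne_zero) ?_
    rw [ht, ← pow_add, hp.factorization_pow, hp.factorization_pow]
    simpa using hlt
  have hcteq : c = t := by omega
  have hCTeq : C = T := Subgroup.eq_of_le_of_card_ge hCT (by rw [hc, ht, hcteq])
  set E : Subgroup G := (P : Subgroup G) ⊓ cj x P with hE
  have hET : E = cj x T := by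
    rw [hT, hE]
    unfold cj
    rw [Subgroup.map_inf _ _ _ (MulAut.conj x).injective]
    have := cj_cj x x⁻¹ (P : Subgroup G)
    rw [mul_inv_cancel, cj_one] at this
    unfold cj at this
    rw [this, inf_comm]
  have hCE : C ≤ E := by
    intro g hg
    have hg1 : g ∈ (P : Subgroup G) := hg.1
    have hg2 : g ∈ Subgroup.centralizer ({x} : Set G) := hg.2
    refine ⟨hg1, ?_⟩
    show g ∈ cj x (P : Subgroup G)
    rw [mem_cj]
    rw [Subgroup.mem_centralizer_singleton_iff] at hg2
    have : x⁻¹ * g * x = g := by rw [mul_assoc, hg2]; group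
    rw [this]; exact hg1
  have hEcard : Nat.card E = p ^ t := by rw [hET, card_cj, ht]
  have hCEeq : C = E := Subgroup.eq_of_le_of_card_ge hCE (by rw [hc, hEcard, hcteq])
  refine ⟨x, ?_, ?_, ?_⟩
  · intro hh
    apply hA'
    refine MemLocalIdeal.mul_right hM hh ?_
    refine memLocalRing_natCast_div h (mul_ne_zero (pow_ne_zero _ hp.ne_zero) Nat.card_pos.ne') ?_
    rw [hc, ← pow_add, hp.factorization_pow, hp.factorization_pow]
    simp only [Finsupp.single_eq_same]
    omega
  · show E ≤ _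
    rw [← hCEeq]; exact inf_le_right
  · rw [hEcard]
    congr 1
    show t = a - mn
    omega

end green

section strong

variable {G : Type u} [Group G] [Fintype G] {M : Ideal AlgInt} {p : ℕ} [Fact p.Prime]

omit [Fintype G] in
/-- normalizers grow in `p`-groups -/
theorem eq_of_inf_normalizer_le [Finite G] {D E : Subgroup G} (hE : IsPGroup p E) (hDE : D ≤ E)
    (h : E ⊓ Subgroup.normalizer (D : Set G) ≤ D) : E = D := by
  haveI : Group.IsNilpotent E := hE.isNilpotent
  have hnc : NormalizerCondition E := normalizerCondition_of_isNilpotent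
  have htop : D.subgroupOf E = ⊤ := by
    by_contra hne
    have hlt := hnc (D.subgroupOf E) (lt_top_iff_ne_top.2 hne)
    obtain ⟨x, hx, hxD⟩ := SetLike.exists_of_lt hlt
    apply hxD
    have hxN : (x : G) ∈ Subgroup.normalizer (D : Set G) := by
      rw [Subgroup.mem_normalizer_iff]
      intro d
      rw [Subgroup.mem_normalizer_iff] at hx
      constructor
      · intro hd
        have := (hx ⟨d, hDE hd⟩).1 (by simpa [Subgroup.mem_subgroupOf] using hd)
        simpa [Subgroup.mem_subgroupOf] using this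
      · intro hd
        have hdS : d ∈ E := by
          have h1 := hDE hd
          have h2 : d = (x : G)⁻¹ * ((x : G) * d * (x : G)⁻¹) * (x : G) := by group
          rw [h2]
          exact E.mul_mem (E.mul_mem (E.inv_mem x.2) h1) x.2
        have := (hx ⟨d, hdS⟩).2 (by simpa [Subgroup.mem_subgroupOf] using hd)
        simpa [Subgroup.mem_subgroupOf] using this
    have : (x : G) ∈ D := h ⟨x.2, hxN⟩
    simpa [Subgroup.mem_subgroupOf] using this
  apply le_antisymm _ hDE
  intro s hs
  have : (⟨s, hs⟩ : E) ∈ D.subgroupOf E := by rw [htop]; trivial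
  simpa [Subgroup.mem_subgroupOf] using this

/-- **Green's theorem.** -/
theorem green_strong [hMm : M.IsMaximal] [CharP (FM M) p] (hM : IsPModular p M)
    {B : Set (IrrCharacter G)} (hB : IsPBlock M B) {D : Subgroup G}
    (hD : IsDefectGroup p M B D) (P : Sylow p G) (hDP : D ≤ P) :
    ∃ x : G, ¬ p ∣ orderOf x ∧ D ≤ Subgroup.centralizer ({x} : Set G) ∧
      Nat.card D = p ^ (Nat.card (Subgroup.centralizer ({x} : Set G))).factorization p ∧
      (P : Subgroup G) ⊓ cj x P = D := by
  classical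
  have hMp := pmod_isPrime hM
  have hDp : IsPGroup p D := IsDefectGroup.isPGroup hD
  set N := Subgroup.normalizer (D : Set G) with hN
  have hDN : D ≤ N := Subgroup.le_normalizer
  obtain ⟨b, hb⟩ := exists_brCorr_of_block M N p hM le_rfl le_rfl hB hD
  have hbb : IsPBlock M b := hb.1.1
  have hDb : IsDefectGroup p M b (D.subgroupOf N) := hb.2.2.1
  haveI hnorm : (D.subgroupOf N).Normal :=
    (Subgroup.normal_subgroupOf_iff_le_normalizer hDN).2 le_rfl
  have hPN : IsPGroup p (((P : Subgroup G) ⊓ N).subgroupOf N) :=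
    (P.isPGroup'.to_le inf_le_left).comap_subtype
  obtain ⟨S, hS⟩ := hPN.exists_le_sylow
  obtain ⟨w, hw1, hw2, hw3⟩ := green_weak hM hbb S
  have hD'S : D.subgroupOf N ≤ S := by
    intro d hd
    exact hS ⟨hDP hd, d.2⟩
  have hD'T : D.subgroupOf N ≤ (S : Subgroup N) ⊓ cj w S := by
    refine le_inf hD'S ?_
    intro d hd
    rw [mem_cj]
    apply hD'S
    have := hnorm.conj_mem d hd w⁻¹
    simpa [mul_assoc] using this
  have hD'eq : D.subgroupOf N = (S : Subgroup N) ⊓ cj w S :=
    Subgroup.eq_of_le_of_card_ge hD'T (by rw [hw3, card_of_isDefectGroup hM hbb hDb])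
  have hwD : w ∈ Subgroup.centralizer ((D.subgroupOf N : Subgroup N) : Set N) := by
    rw [← le_centralizer_singleton_iff, hD'eq]
    exact hw2
  have hxD : (w : G) ∈ Subgroup.centralizer (D : Set G) :=
    (mem_centralizer_subgroupOf_iff hDN w).1 hwD
  have hcard : Nat.card D =
      p ^ (Nat.card (Subgroup.centralizer ({w} : Set N))).factorization p := by
    apply le_antisymm
    · rw [← card_subgroupOf_of_le hDN]
      exact card_le_of_isPGroup_le hDp.comap_subtype ((le_centralizer_singleton_iff _ _).2 hwD)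
    · obtain S' : Sylow p (Subgroup.centralizer ({w} : Set N)) := default
      obtain ⟨hSle, hScard⟩ := (sylow_image_iff (Subgroup.centralizer ({w} : Set N))
        ((S' : Subgroup (Subgroup.centralizer ({w} : Set N))).map
          (Subgroup.centralizer ({w} : Set N)).subtype)).1 ⟨S', rfl⟩
      obtain ⟨x, hx⟩ := minmax_a hM hbb hDb hw1 _ (S'.isPGroup'.map _) hSle
      rw [← hScard, ← card_subgroupOf_of_le hDN, ← card_cj x (D.subgroupOf N)]
      exact Nat.card_le_card_of_injective _ (Subgroup.inclusion_injective hx)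
  refine ⟨(w : G), ?_, (le_centralizer_singleton_iff _ _).2 hxD, ?_, ?_⟩
  · intro hdvd
    apply hw1
    rw [blockCoeff_eq_zero_of_singular hM hbb w (by rwa [Subgroup.orderOf_coe] at hdvd)]
    exact memLocalIdeal_zero hMp
  · apply card_eq_of_card_inf_normalizer hDp hxD
    rw [hcard, card_centralizer_subtype]
  · apply eq_of_inf_normalizer_le (p := p) (P.isPGroup'.to_le inf_le_left)
    · refine le_inf hDP ?_
      intro d hd
      rw [mem_cj]
      apply hDP
      have := hnorm.conj_mem ⟨d, hDN hd⟩ hd w⁻¹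
      have h2 : ((w⁻¹ * ⟨d, hDN hd⟩ * w⁻¹⁻¹ : N) : G) ∈ D := this
      simpa [mul_assoc] using h2
    · intro e he
      have he1 : e ∈ (P : Subgroup G) := he.1.1
      have he2 : e ∈ cj (w : G) (P : Subgroup G) := he.1.2
      have he3 : e ∈ N := he.2
      rw [mem_cj] at he2
      have h1 : (⟨e, he3⟩ : N) ∈ (S : Subgroup N) ⊓ cj w S := by
        refine ⟨hS ⟨he1, he3⟩, ?_⟩
        show (⟨e, he3⟩ : N) ∈ cj w (S : Subgroup N)
        rw [mem_cj]
        exact hS ⟨he2, SetLike.coe_mem (w⁻¹ * (⟨e, he3⟩ : N) * w)⟩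
      rw [← hD'eq] at h1
      exact h1

end strong

end Cfsg.Agent.Lib.Helper16
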