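import Mathlib
import Cfsg.Agent.Lib.Helper16.RelMain
import Cfsg.Agent.Lib.Helper15.Gallagher
import Cfsg.Agent.Lib.Helper78.DefectZero
import Cfsg.Agent.Lib.Helper80.Eigen
import Cfsg.Agent.S0865
import Cfsg.Agent.S0966

/-!
# Normalised extensions when only a normal subgroup of `p`-power index is covered
-/

set_option autoImplicit false

namespace Cfsg.Agent.Lib.Helper16

open Cfsg Cfsg.Agent.Lib.Helper78 Cfsg.Agent.Lib.Helper15

noncomputable section

/-- two extensions of the same irreducible character differ by a linear character -/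
theorem exists_linear_of_extensions {G : Type*} [Group G] [Finite G] (N : Subgroup G) [N.Normal]
    {η χ' : G → ℂ} (hη : IsIrrCharacter G η) (hηN : IsIrrCharacter N (fun n : N => η n))
    (hχ' : IsIrrCharacter G χ') (hres : ∀ n : N, χ' n = η n) :
    ∃ b : G →* ℂˣ, (∀ n ∈ N, b n = 1) ∧ χ' = toFn b * η := by
  classical
  have := Fintype.ofFinite G
  have hgal := gallagher N hη hηN
  have hmem : χ' ∈ {ψ | IsIrrCharacter G ψ ∧
      classInner (fun n : N => ψ n) (fun n : N => η n) ≠ 0} := by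
    refine ⟨hχ', ?_⟩
    have : (fun n : N => χ' n) = fun n : N => η n := funext hres
    rw [this, irr_inner_self hηN]
    exact one_ne_zero
  obtain ⟨b', ⟨hb'irr, hb'N⟩, hb'⟩ := hgal.surjOn hmem
  simp only at hb'
  have hd0 : η 1 ≠ 0 := irr_one_ne_zero hη
  have hb'1 : b' 1 = 1 := by
    have h1 := congrFun hb' 1
    rw [Pi.mul_apply] at h1
    have h2 : χ' 1 = η 1 := hres 1
    rw [h2] at h1
    exact mul_right_cancel₀ hd0 (by rw [h1, one_mul])
  obtain ⟨b, rfl⟩ := exists_toFn (irr_char hb'irr) hb'1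
  refine ⟨b, ?_, hb'.symm⟩
  intro n hn
  apply Units.ext
  have := (restrict_eq_of_inner_one_ne_zero N hb'irr hb'N).2 ⟨n, hn⟩
  rw [hb'1] at this
  exact this

theorem not_dvd_orderOf_hom {X : Type*} [Group X] [Finite X] {p : ℕ} (hp : p.Prime)
    (f : X →* ℂˣ) (h : ∀ x, IsPPrimeRoot p (f x : ℂ)) : ¬ p ∣ orderOf f := by
  intro hdvd
  obtain ⟨o', ho'⟩ := hdvd
  have hfin : f ^ Nat.card X = 1 := by
    ext x
    rw [MonoidHom.pow_apply, ← map_pow, pow_card_eq_one', map_one, MonoidHom.one_apply]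
  have hpos : 0 < orderOf f :=
    orderOf_pos_iff.2 (isOfFinOrder_iff_pow_eq_one.2 ⟨Nat.card X, Nat.card_pos, hfin⟩)
  have ho'pos : 0 < o' := by
    rcases Nat.eq_zero_or_pos o' with h0 | h0
    · rw [h0, mul_zero] at ho'
      omega
    · exact h0
  have hlt : o' < orderOf f := by
    rw [ho']
    exact lt_mul_of_one_lt_left ho'pos hp.one_lt
  apply pow_ne_one_of_lt_orderOf ho'pos.ne' hlt
  ext x
  obtain ⟨m', hm', h1⟩ := h x
  have h2 : (f x) ^ m' = 1 := Units.ext (by simpa using h1)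
  have h3 : ((f x) ^ o') ^ p = 1 := by
    rw [← pow_mul, mul_comm, ← ho']
    have := DFunLike.congr_fun (pow_orderOf_eq_one f) x
    rwa [MonoidHom.pow_apply, MonoidHom.one_apply] at this
  have h4 : ((f x) ^ o') ^ m' = 1 := by rw [← pow_mul, mul_comm, pow_mul, h2, one_pow]
  have h5 : orderOf ((f x) ^ o') ∣ Nat.gcd p m' :=
    Nat.dvd_gcd (orderOf_dvd_of_pow_eq_one h3) (orderOf_dvd_of_pow_eq_one h4)
  rw [(Nat.Prime.coprime_iff_not_dvd hp).2 hm'] at h5
  have := orderOf_eq_one_iff.1 (Nat.dvd_one.1 h5)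
  simpa using congrArg Units.val this

variable {G : Type*} [Group G] [Fintype G] {N : Subgroup G}
variable {M : Ideal AlgInt} [hMm : M.IsMaximal]

theorem IsKappa.conj [hN : N.Normal] {ψ : G → ℂ} (hcl : IsClassFunction G ψ) {x : G} {k : FM M}
    (h : IsKappa N M ψ x k) (g : G) : IsKappa N M ψ (g * x * g⁻¹) k := by
  intro a ha haR has
  have e : ∀ f : G → ℂ, ∑ y, f (g * y * g⁻¹) = ∑ y, f y := fun f =>
    Equiv.sum_comp (MulAut.conj g).toEquiv f
  have h1 := h (fun y => a (g * y * g⁻¹)) ?_ (fun y => haR _) ?_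
  · have h2 : omega ψ (fun y => a (g * y * g⁻¹)) = omega ψ a := by
      unfold omega
      congr 1
      rw [← e (fun y => a y * ψ y)]
      refine Finset.sum_congr rfl fun y _ => ?_
      rw [hcl]
    rw [h2, e a] at h1
    exact h1
  · intro n hn y
    have : g * (n * y * n⁻¹) * g⁻¹ = (g * n * g⁻¹) * (g * y * g⁻¹) * (g * n * g⁻¹)⁻¹ := by group
    simp only
    rw [this, ha _ (hN.conj_mem n hn g)]
  · intro y hy
    have h3 := has _ hy
    have h4 := hN.conj_mem _ h3 g⁻¹
    have h5 : g⁻¹ * (g * y * g⁻¹ * (g * x * g⁻¹)⁻¹) * g⁻¹⁻¹ = y * x⁻¹ := by group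
    rwa [h5] at h4

theorem IsKappa.of_coset {ψ : G → ℂ} {x c : G} {k : FM M} (h : IsKappa N M ψ c k)
    (hx : x * c⁻¹ ∈ N) : IsKappa N M ψ x k := by
  intro a ha haR has
  refine h a ha haR ?_
  intro g hg
  have h1 := N.mul_mem (has g hg) hx
  have h2 : g * x⁻¹ * (x * c⁻¹) = g * c⁻¹ := by group
  rwa [h2] at h1

section kappaOn

variable [hN : N.Normal] [Fintype N] {ψ : G → ℂ} (hψ : IsCharacter G ψ)
  (hres : IsIrrCharacter N (fun n : N => ψ n))
  (hpr : SameBlock M (fun _ : N => (1 : ℂ)) (fun n : N => ψ n))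
  (J : Subgroup G) (hgood : ∀ x ∈ J, Good N M x)

/-- the homomorphism `κ` on a subgroup all of whose cosets are good -/
def kappaHomOn : J →* (FM M)ˣ :=
  MonoidHom.mk' (fun x => Units.mk0
    (exists_isKappa hψ hres hpr (hgood x x.2) (hgood _ (J.inv_mem x.2))).choose
    (exists_isKappa hψ hres hpr (hgood x x.2) (hgood _ (J.inv_mem x.2))).choose_spec.1) (by
    intro x y
    apply Units.ext
    simp only [Units.val_mk0, Units.val_mul]
    exact IsKappa.mul_eq hψ hres (hgood x x.2) (hgood y y.2)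
      (exists_isKappa hψ hres hpr (hgood x x.2) (hgood _ (J.inv_mem x.2))).choose_spec.2
      (exists_isKappa hψ hres hpr (hgood y y.2) (hgood _ (J.inv_mem y.2))).choose_spec.2
      (exists_isKappa hψ hres hpr (hgood (x * y : J) (x * y).2)
        (hgood _ (J.inv_mem (x * y).2))).choose_spec.2)

theorem isKappa_kappaHomOn (x : J) :
    IsKappa N M ψ x (kappaHomOn hψ hres hpr J hgood x : FM M) :=
  (exists_isKappa hψ hres hpr (hgood x x.2) (hgood _ (J.inv_mem x.2))).choose_spec.2

theorem kappaHomOn_eq_one_of_mem {x : J} (hx : (x : G) ∈ N) :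
    kappaHomOn hψ hres hpr J hgood x = 1 := by
  apply Units.ext
  exact IsKappa.unique (hgood x x.2) (isKappa_kappaHomOn hψ hres hpr J hgood x)
    (isKappa_one_of_mem hψ hres hpr hx)

theorem kappaHomOn_conj [hJ : J.Normal] (g : G) (x : J) :
    kappaHomOn hψ hres hpr J hgood ⟨g * x * g⁻¹, hJ.conj_mem (x : G) x.2 g⟩
      = kappaHomOn hψ hres hpr J hgood x := by
  apply Units.ext
  exact IsKappa.unique (hgood _ (hJ.conj_mem (x : G) x.2 g))
    (isKappa_kappaHomOn hψ hres hpr J hgood ⟨g * x * g⁻¹, hJ.conj_mem (x : G) x.2 g⟩)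
    ((isKappa_kappaHomOn hψ hres hpr J hgood x).conj (Helper74.IsCharacter.isClassFunction hψ) g)

include hψ hres hpr hgood in
/-- **The normalised extension**, when the good cosets form a normal subgroup of `p`-power
index. -/
theorem exists_normalised_on {p : ℕ} [Fact p.Prime] (hM : IsPModular p M) [hJ : J.Normal]
    (hNJ : N ≤ J) {a : ℕ} (hidx : J.index = p ^ a) :
    ∃ l : G →* ℂˣ, (∀ n ∈ N, l n = 1) ∧ (∀ g, IsPPrimeRoot p (l g : ℂ)) ∧
      ∀ x ∈ J, IsKappa N M (fun g => (l g : ℂ) * ψ g) x 1 := by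
  have hp : p.Prime := Fact.out
  set lam : J →* ℂˣ := (teich hM).comp (kappaHomOn hψ hres hpr J hgood)⁻¹ with hlam
  have hroot : ∀ x, IsPPrimeRoot p (lam x : ℂ) := fun x => teich_isPPrimeRoot hM _
  have hord : ¬ p ∣ orderOf lam := not_dvd_orderOf_hom hp lam hroot
  obtain ⟨μ, ⟨hμc, hμ1, hμres, hμord⟩, -⟩ := Cfsg.Agent.S0865.result J (toFn lam)
    ⟨char_toFn lam, toFn_one' lam⟩ (by
      intro g n
      rw [toFn_apply, toFn_apply, hlam, MonoidHom.comp_apply, MonoidHom.comp_apply,
        MonoidHom.inv_apply, MonoidHom.inv_apply, kappaHomOn_conj]) (by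
      rw [hidx, orderOf_toFn]
      exact Nat.Coprime.pow_left a ((Nat.Prime.coprime_iff_not_dvd hp).2 hord))
  obtain ⟨l, rfl⟩ := exists_toFn hμc hμ1
  have hl : ∀ x : J, l x = lam x := fun x => Units.ext (hμres x)
  have hlN : ∀ n ∈ N, l n = 1 := by
    intro n hn
    rw [hl ⟨n, hNJ hn⟩, hlam, MonoidHom.comp_apply, MonoidHom.inv_apply,
      kappaHomOn_eq_one_of_mem hψ hres hpr J hgood (x := ⟨n, hNJ hn⟩) hn, inv_one, map_one]
  refine ⟨l, hlN, ?_, ?_⟩
  · intro g
    refine ⟨orderOf l, ?_, ?_⟩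
    · rw [orderOf_toFn, orderOf_toFn] at hμord
      rwa [hμord]
    · have := DFunLike.congr_fun (pow_orderOf_eq_one l) g
      rw [MonoidHom.pow_apply, MonoidHom.one_apply] at this
      rw [← Units.val_pow_eq_pow_val, this, Units.val_one]
  · intro x hx
    have h := (isKappa_kappaHomOn hψ hres hpr J hgood ⟨x, hx⟩).twist l hlN
      (by rw [hl ⟨x, hx⟩]; exact (hroot _).mem)
      (fun a ha haR => omega_mem_rel N M hψ hres ha haR)
    have h2 : redC M ((l x : ℂˣ) : ℂ) * (kappaHomOn hψ hres hpr J hgood ⟨x, hx⟩ : FM M) = 1 := by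
      rw [hl ⟨x, hx⟩, hlam, MonoidHom.comp_apply, redC_teich]
      simp
    rwa [h2] at h

end kappaOn

theorem char_mem_loc {ψ : G → ℂ} (hψ : IsCharacter G ψ) (g : G) : MemLocalRing M (ψ g) := by
  obtain ⟨n, ρ, rfl⟩ := hψ
  exact memLocalRing_of_isIntegral hMm.isPrime (Helper80.isIntegral_char ρ g)

theorem orbInd_mem_loc (c g : G) : MemLocalRing M (orbInd N c g) := by
  unfold orbInd
  split_ifs
  · exact memLocalRing_one hMm.isPrime
  · exact memLocalRing_zero hMm.isPrime

/-- on an element with `N`-class of `p'`-size, `κ` is read off from the character value -/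
theorem IsKappa.redC_val [hN : N.Normal] [Fintype N] {ψ : G → ℂ} (hψ : IsCharacter G ψ)
    (hres : IsIrrCharacter N (fun n : N => ψ n)) {p : ℕ} [Fact p.Prime] (hM : IsPModular p M)
    {c : G} (hc : ¬ p ∣ cN N c) {k : FM M} (h : IsKappa N M ψ c k) :
    redC M (ψ c) = k * redC M (ψ 1) := by
  have hcl := Helper74.IsCharacter.isClassFunction hψ
  have hχ1 : ψ 1 ≠ 0 := irr_one_ne_zero ⟨_, hres⟩
  have h3 := h (orbInd N c) (orbInd_NInv N _) (orbInd_mem_loc c) (orbInd_suppCoset N _)
  rw [omega_orbInd N hcl, sum_orbInd] at h3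
  have hw : wrel N ψ c * ψ 1 = (cN N c : ℂ) * ψ c := by
    unfold wrel
    field_simp
  have hcR : MemLocalRing M (cN N c : ℂ) :=
    memLocalRing_of_isIntegral hMm.isPrime (isIntegral_natCast _)
  have h4 := congrArg (redC M) hw
  rw [redC_mul (memLocalRing_of_isIntegral hMm.isPrime (isIntegral_wrel N hψ hres c))
    (char_mem_loc hψ 1), redC_mul hcR (char_mem_loc hψ c), h3] at h4
  have h5 : redC M (cN N c : ℂ) ≠ 0 := by
    rw [Ne, redC_eq_zero_iff hcR, memLocalIdeal_natCast_iff hM]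
    exact hc
  refine mul_left_cancel₀ h5 ?_
  rw [← h4]
  ring

/-- if all `κ` on `J` are trivial, then `ω_χ` is congruent to the augmentation on all
`N`-invariant functions supported on `J` -/
theorem omega_sub_sum_mem_of_kappa_one_on [hN : N.Normal] [Fintype N] {χ : G → ℂ}
    (hχ : IsCharacter G χ) (hres : IsIrrCharacter N (fun n : N => χ n)) (J : Subgroup G)
    (h1 : ∀ x ∈ J, IsKappa N M χ x 1) {a : G → ℂ} (ha : NInv N a)
    (haR : ∀ g, MemLocalRing M (a g)) (haJ : ∀ g, g ∉ J → a g = 0) :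
    MemLocalIdeal M (omega χ a - ∑ g, a g) := by
  classical
  haveI : Fintype (MulAction.orbitRel.Quotient (cjGrp N) G) := Fintype.ofFinite _
  have hcl := Helper74.IsCharacter.isClassFunction hχ
  rw [omega_eq_sum_orbits N hcl ha, sum_NInv N ha, ← Finset.sum_sub_distrib]
  refine MemLocalIdeal.sum hMm.isPrime _ _ fun ω _ => ?_
  have h2 : a ω.out * wrel N χ ω.out - (cN N ω.out : ℂ) * a ω.out
      = a ω.out * (wrel N χ ω.out - (cN N ω.out : ℂ)) := by ring
  rw [h2]
  by_cases hJ : ω.out ∈ J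
  · refine MemLocalIdeal.mul_left hMm.isPrime (haR _) ?_
    have h3 := h1 ω.out hJ (orbInd N ω.out) (orbInd_NInv N _) (orbInd_mem_loc _)
      (orbInd_suppCoset N _)
    rw [one_mul, redC_eq_iff (omega_mem_rel N M hχ hres (orbInd_NInv N _) (orbInd_mem_loc _))
      (sum_mem_loc M (orbInd_mem_loc _)), omega_orbInd N hcl, sum_orbInd] at h3
    exact h3
  · rw [haJ _ hJ, zero_mul]
    exact memLocalIdeal_zero hMm.isPrime

theorem sameBlock_of_kappa_one_on [hN : N.Normal] [Fintype N] {χ : G → ℂ}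
    (hχ : IsCharacter G χ) (hres : IsIrrCharacter N (fun n : N => χ n)) (J : Subgroup G)
    (hNJ : N ≤ J) (h1 : ∀ x ∈ J, IsKappa N M χ x 1) :
    SameBlock M (fun _ : J => (1 : ℂ)) (fun y : J => χ y) := by
  classical
  haveI : Fintype J := Fintype.ofFinite _
  intro y
  set a : G → ℂ := fun g => if h : g ∈ J then classInd y ⟨g, h⟩ else 0 with ha
  have haJ : ∀ u : J, a u = classInd y u := fun u => by simp [ha]
  have hoff : ∀ g, g ∉ J → a g = 0 := fun g hg => by simp [ha, hg]
  have hinv : NInv N a := by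
    intro n hn g
    by_cases hg : g ∈ J
    · have hg' : n * g * n⁻¹ ∈ J := J.mul_mem (J.mul_mem (hNJ hn) hg) (J.inv_mem (hNJ hn))
      have e1 : a (n * g * n⁻¹) = classInd y ⟨n * g * n⁻¹, hg'⟩ := haJ ⟨_, hg'⟩
      have e2 : a g = classInd y ⟨g, hg⟩ := haJ ⟨_, hg⟩
      rw [e1, e2]
      exact classInd_isClassFunction y ⟨g, hg⟩ ⟨n, hNJ hn⟩
    · have hg' : n * g * n⁻¹ ∉ J := by
        intro h
        apply hg
        have := J.mul_mem (J.mul_mem (J.inv_mem (hNJ hn)) h) (hNJ hn)
        simpa [mul_assoc] using this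
      rw [hoff _ hg, hoff _ hg']
  have hloc : ∀ g, MemLocalRing M (a g) := by
    intro g
    by_cases hg : g ∈ J
    · rw [haJ ⟨g, hg⟩]
      unfold classInd
      split_ifs
      · exact memLocalRing_one hMm.isPrime
      · exact memLocalRing_zero hMm.isPrime
    · rw [hoff _ hg]
      exact memLocalRing_zero hMm.isPrime
  have hclJ : IsClassFunction J (fun y : J => χ y) := by
    intro g h
    exact Helper74.IsCharacter.isClassFunction hχ g h
  have e1 : centralChar (fun y : J => χ y) y = omega χ a := by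
    rw [← omega_classInd hclJ]
    unfold omega
    congr 1
    rw [← sum_coe_eq_sum_of_support J (fun g => a g * χ g)
      (fun g hg => by simp only [hoff g hg, zero_mul])]
    refine Finset.sum_congr rfl fun u _ => ?_
    rw [haJ]
  have e2 : centralChar (fun _ : J => (1 : ℂ)) y = ∑ g, a g := by
    rw [← omega_classInd (fun _ _ => rfl)]
    unfold omega
    rw [div_one, ← sum_coe_eq_sum_of_support J a hoff]
    refine Finset.sum_congr rfl fun u _ => ?_
    rw [haJ, mul_one]
  rw [e1, e2]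
  have := MemLocalIdeal.neg (omega_sub_sum_mem_of_kappa_one_on hχ hres J h1 hinv hloc hoff)
  rwa [neg_sub] at this

/-- a character whose restriction to a normal subgroup of `p`-power index is an irreducible
character in the principal block lies in the principal block -/
theorem mem_principalBlock_of_restrict {p : ℕ} [Fact p.Prime] (hM : IsPModular p M)
    (J : Subgroup G) [J.Normal] {a : ℕ} (hidx : J.index = p ^ a) (χ : IrrCharacter G)
    (hirr : IsIrrCharacter J (fun y : J => (χ : G → ℂ) y))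
    (hsb : SameBlock M (fun _ : J => (1 : ℂ)) (fun y : J => (χ : G → ℂ) y)) :
    χ ∈ principalBlock M G := by
  classical
  haveI : Fintype J := Fintype.ofFinite _
  obtain ⟨B, -, huniq⟩ := Cfsg.Agent.S0966.result p M hM J ⟨a, hidx⟩ (principalBlock M J)
    isPBlock_principalBlock
  have h1 : principalBlock M G = B := by
    refine huniq _ ⟨isPBlock_principalBlock, trivIrr G, trivIrr_mem_principalBlock hMm.isPrime,
      trivIrr J, trivIrr_mem_principalBlock hMm.isPrime, ?_⟩
    have : (fun n : J => ((trivIrr G : IrrCharacter G) : G → ℂ) n) = (trivIrr J : J → ℂ) := rfl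
    rw [this, irr_inner_self (trivIrr J).2]
    exact one_ne_zero
  have h2 : blockOf M (χ : G → ℂ) = B := by
    refine huniq _ ⟨isPBlock_blockOf χ, χ, mem_blockOf_self hMm.isPrime χ, ⟨_, hirr⟩, hsb, ?_⟩
    rw [irr_inner_self hirr]
    exact one_ne_zero
  rw [h1, ← h2]
  exact mem_blockOf_self hMm.isPrime χ

end

end Cfsg.Agent.Lib.Helper16
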