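import Mathlib
import Cfsg.Agent.Lib.Helper16.NormExt
import Cfsg.Agent.Lib.Helper16.ExtExist
import Cfsg.Agent.Lib.Helper16.DetPow
import Cfsg.Agent.Lib.Helper16.Rational
import Cfsg.Agent.Lib.Helper76.GaloisChar

/-!
# The canonical `p`-rational extension in the principal block
-/

set_option autoImplicit false

namespace Cfsg.Agent.Lib.Helper16

open Cfsg Cfsg.Agent.Lib.Helper78 Cfsg.Agent.Lib.Helper15 Cfsg.Agent.Lib.Helper81

noncomputable section

variable {G : Type*} [Group G] [Fintype G]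

/-- the normalised extensions of `θ` -/
structure IsNormExt (M : Ideal AlgInt) [M.IsMaximal] (N C : Subgroup G) (m : ℕ) (θ : N → ℂ)
    (χ : G → ℂ) : Prop where
  irr : IsIrrCharacter G χ
  res : ∀ n : N, χ n = θ n
  cong : ∀ c ∈ C, redC M (χ c) = redC M (χ 1)
  det : ∀ g, detChar χ g ^ m = 1

variable {M : Ideal AlgInt} [hMm : M.IsMaximal] {N C : Subgroup G} {m : ℕ} {θ : N → ℂ}

theorem redC_natCast_ne_zero {p : ℕ} [Fact p.Prime] (hM : IsPModular p M) {d : ℕ}
    (hd : ¬ p ∣ d) : redC M (d : ℂ) ≠ 0 := by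
  rw [Ne, redC_eq_zero_iff (memLocalRing_of_isIntegral hMm.isPrime (isIntegral_natCast _)),
    memLocalIdeal_natCast_iff hM]
  exact hd

theorem IsNormExt.one_eq {χ : G → ℂ} (h : IsNormExt M N C m θ χ) (hθ : IsIrrCharacter N θ) :
    χ 1 = (charDegree θ : ℂ) := by
  rw [← irr_one_eq ⟨θ, hθ⟩]
  exact h.res 1

theorem IsNormExt.unique {p : ℕ} [Fact p.Prime] (hM : IsPModular p M) [N.Normal]
    (hpm : ¬ p ∣ m) (hθ : IsIrrCharacter N θ) (hdeg : ¬ p ∣ charDegree θ) {a : ℕ}
    (hidx : (N ⊔ C).index = p ^ a) [(N ⊔ C).Normal] {χ χ' : G → ℂ}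
    (h : IsNormExt M N C m θ χ) (h' : IsNormExt M N C m θ χ') : χ' = χ := by
  have hp : p.Prime := Fact.out
  have hfun : (fun n : N => χ n) = θ := funext h.res
  obtain ⟨b, hbN, rfl⟩ := exists_linear_of_extensions N h.irr (hfun ▸ hθ) h'.irr
    (fun n => (h'.res n).trans (h.res n).symm)
  have hχc := irr_char h.irr
  have hd := h.one_eq hθ
  set d := charDegree θ with hdd
  have hroot : ∀ g, b g ^ (d * m) = 1 := by
    intro g
    have h1 := h'.det g
    rw [detChar_mul_linear b hχc d hd, Pi.mul_apply, Pi.pow_apply, toFn_apply, mul_pow, h.det g,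
      mul_one, ← pow_mul] at h1
    apply Units.ext
    rw [Units.val_pow_eq_pow_val, h1, Units.val_one]
  have hroot' : ∀ g, IsPPrimeRoot p (b g : ℂ) := fun g =>
    ⟨d * m, hp.not_dvd_mul hdeg hpm, by rw [← Units.val_pow_eq_pow_val, hroot g, Units.val_one]⟩
  have hbC : ∀ c ∈ C, b c = 1 := by
    intro c hc
    have h1 := h'.cong c hc
    rw [Pi.mul_apply, Pi.mul_apply, toFn_apply, toFn_apply, map_one, Units.val_one, one_mul,
      redC_mul (hroot' c).mem (char_mem_loc hχc c), h.cong c hc] at h1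
    have h2 : redC M (χ 1) ≠ 0 := by
      rw [hd]
      exact redC_natCast_ne_zero hM hdeg
    have h3 : redC M (b c : ℂ) = redC M 1 := by
      rw [redC_one]
      exact mul_right_cancel₀ h2 (by rw [h1, one_mul])
    exact Units.ext ((hroot' c).eq_of_redC_eq hM (isPPrimeRoot_one p hp) h3)
  have hbH : N ⊔ C ≤ b.ker := sup_le (fun n hn => hbN n hn) (fun c hc => hbC c hc)
  have hb1 : ∀ g, b g = 1 := by
    intro g
    have h1 : b g ^ (p ^ a) = 1 := by
      rw [← map_pow, ← hidx]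
      exact hbH (Subgroup.pow_index_mem _ g)
    have h2 := Nat.dvd_gcd (orderOf_dvd_of_pow_eq_one h1) (orderOf_dvd_of_pow_eq_one (hroot g))
    have h3 : Nat.Coprime (p ^ a) (d * m) :=
      Nat.Coprime.pow_left a ((Nat.Prime.coprime_iff_not_dvd hp).2 (hp.not_dvd_mul hdeg hpm))
    rw [h3] at h2
    exact orderOf_eq_one_iff.1 (Nat.dvd_one.1 h2)
  funext g
  rw [Pi.mul_apply, toFn_apply, hb1 g, Units.val_one, one_mul]

theorem IsNormExt.pow {k : ℕ} (hk : k.Coprime (Nat.card G)) (hθk : ∀ n : N, θ (n ^ k) = θ n)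
    {χ : G → ℂ} (h : IsNormExt M N C m θ χ) : IsNormExt M N C m θ (fun g => χ (g ^ k)) := by
  have hirr := Helper76.isIrrCharacter_pow_coprime h.irr hk
  refine ⟨hirr, ?_, ?_, ?_⟩
  · intro n
    have := h.res (n ^ k)
    rw [hθk] at this
    exact this
  · intro c hc
    simp only [one_pow]
    exact h.cong _ (C.pow_mem hc k)
  · intro g
    rw [detChar_pow_map (irr_char h.irr) (irr_char hirr)]
    exact h.det _

section cent

variable {p : ℕ} [Fact p.Prime] [hN : N.Normal] [Fintype N]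

theorem good_of_mem_sup (hM : IsPModular p M) (Q : Sylow p N) {x : G}
    (hx : x ∈ N ⊔ Subgroup.centralizer (((Q : Subgroup N).map N.subtype : Subgroup G) : Set G)) :
    Good N M x := by
  obtain ⟨n, hn, c, hc, rfl⟩ := Subgroup.mem_sup_of_normal_left.1 hx
  exact (good_of_centralizes hM Q hc).of_coset (by simpa using hn)

/-- the congruence condition on the centraliser is equivalent to the triviality of `κ` -/
theorem isKappa_one_of_cong (hM : IsPModular p M) (Q : Sylow p N) {χ : G → ℂ}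
    (hχ : IsCharacter G χ) (hres : IsIrrCharacter N (fun n : N => χ n))
    (hpr : SameBlock M (fun _ : N => (1 : ℂ)) (fun n : N => χ n))
    (hdeg : redC M (χ 1) ≠ 0)
    (hcong : ∀ c ∈ Subgroup.centralizer (((Q : Subgroup N).map N.subtype : Subgroup G) : Set G),
      redC M (χ c) = redC M (χ 1)) {x : G}
    (hx : x ∈ N ⊔ Subgroup.centralizer (((Q : Subgroup N).map N.subtype : Subgroup G) : Set G)) :
    IsKappa N M χ x 1 := by
  obtain ⟨n, hn, c, hc, rfl⟩ := Subgroup.mem_sup_of_normal_left.1 hx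
  obtain ⟨k, -, hk⟩ := exists_isKappa hχ hres hpr (good_of_centralizes hM Q hc)
    (good_of_centralizes hM Q (Subgroup.inv_mem _ hc))
  have h1 := hk.redC_val hχ hres hM (not_dvd_cN_of_centralizes p Q hc)
  rw [hcong c hc] at h1
  have h2 : k = 1 := (mul_right_cancel₀ hdeg (by rw [← h1, one_mul])).symm
  subst h2
  exact hk.of_coset (by simpa using hn)

theorem cong_of_isKappa_one (hM : IsPModular p M) (Q : Sylow p N) {χ : G → ℂ}
    (hχ : IsCharacter G χ) (hres : IsIrrCharacter N (fun n : N => χ n)) {c : G}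
    (hc : c ∈ Subgroup.centralizer (((Q : Subgroup N).map N.subtype : Subgroup G) : Set G))
    (hk : IsKappa N M χ c 1) : redC M (χ c) = redC M (χ 1) := by
  rw [hk.redC_val hχ hres hM (not_dvd_cN_of_centralizes p Q hc), one_mul]

theorem IsNormExt.mem_principalBlock (hM : IsPModular p M) (Q : Sylow p N)
    (hθ : IsIrrCharacter N θ) (hdeg : ¬ p ∣ charDegree θ)
    (hpr : SameBlock M (fun _ : N => (1 : ℂ)) θ) {a : ℕ}
    (hidx : (N ⊔ Subgroup.centralizer
      (((Q : Subgroup N).map N.subtype : Subgroup G) : Set G)).index = p ^ a) {χ : G → ℂ}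
    (h : IsNormExt M N
      (Subgroup.centralizer (((Q : Subgroup N).map N.subtype : Subgroup G) : Set G)) m θ χ) :
    (⟨χ, h.irr⟩ : IrrCharacter G) ∈ principalBlock M G := by
  haveI := sup_centralizer_normal p N Q
  have hfun : (fun n : N => χ n) = θ := funext h.res
  have hχc := irr_char h.irr
  have hres : IsIrrCharacter N (fun n : N => χ n) := hfun ▸ hθ
  have hd : redC M (χ 1) ≠ 0 := by
    rw [h.one_eq hθ]
    exact redC_natCast_ne_zero hM hdeg
  refine mem_principalBlock_of_restrict hM _ hidx ⟨χ, h.irr⟩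
    (Helper76.isIrrCharacter_restrict_of_le le_sup_left hχc hres) ?_
  exact sameBlock_of_kappa_one_on hχc hres _ le_sup_left fun x hx =>
    isKappa_one_of_cong hM Q hχc hres (hfun ▸ hpr) hd h.cong hx

/-- existence of a normalised extension -/
theorem exists_isNormExt (hM : IsPModular p M) (Q : Sylow p N) (θ : IrrCharacter N)
    (hB : θ ∈ principalBlock M N) (hinv : ∀ g : G, Helper15.cj N g (θ : N → ℂ) = θ)
    (hdeg : ¬ p ∣ charDegree (θ : N → ℂ)) {m1 : ℕ} (hm1 : ¬ p ∣ m1)
    (hdet : ∀ n : N, detChar (θ : N → ℂ) n ^ m1 = 1) {a e : ℕ}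
    (hidx : (N ⊔ Subgroup.centralizer
      (((Q : Subgroup N).map N.subtype : Subgroup G) : Set G)).index = p ^ a)
    (hpm : ¬ p ∣ m) (hcard : Nat.card G = p ^ e * m) :
    ∃ χ : G → ℂ, IsNormExt M N
      (Subgroup.centralizer (((Q : Subgroup N).map N.subtype : Subgroup G) : Set G)) m θ χ := by
  have hp : p.Prime := Fact.out
  haveI := sup_centralizer_normal p N Q
  obtain ⟨ψ, hψ, hψres⟩ := exists_extension hM θ hB hinv hdeg hm1 hdet Q hidx
  have hψc := irr_char hψ
  have hfun : (fun n : N => ψ n) = (θ : N → ℂ) := funext hψres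
  have hres : IsIrrCharacter N (fun n : N => ψ n) := hfun ▸ θ.2
  have hpr : SameBlock M (fun _ : N => (1 : ℂ)) (fun n : N => ψ n) := by
    rw [hfun]; exact hB
  obtain ⟨l, hlN, hlroot, hlk⟩ := exists_normalised_on hψc hres hpr _
    (fun x hx => good_of_mem_sup hM Q hx) hM le_sup_left hidx
  set χ₁ : G → ℂ := fun g => (l g : ℂ) * ψ g with hχ₁
  have hχ₁c : IsCharacter G χ₁ := Helper74.IsCharacter.mul (char_toFn l) hψc
  have hfun₁ : (fun n : N => χ₁ n) = (θ : N → ℂ) := by
    funext n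
    simp only [hχ₁, hlN n n.2, Units.val_one, one_mul]
    exact hψres n
  have hres₁ : IsIrrCharacter N (fun n : N => χ₁ n) := hfun₁ ▸ θ.2
  have hd₁ : χ₁ 1 = (charDegree (θ : N → ℂ) : ℂ) := by
    rw [← irr_one_eq θ]
    exact congrFun hfun₁ 1
  obtain ⟨μ, hμN, hμp, hμdet⟩ := exists_det_correction hp hpm hcard hχ₁c hd₁ hdeg N hm1 (by
    intro n hn
    rw [← detChar_restrict N hχ₁c ⟨n, hn⟩, hfun₁]
    exact hdet _)
  have hχ₀c : IsCharacter G (toFn μ * χ₁) := Helper74.IsCharacter.mul (char_toFn μ) hχ₁c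
  have hfun₀ : (fun n : N => (toFn μ * χ₁) n) = (θ : N → ℂ) := by
    funext n
    rw [Pi.mul_apply, toFn_apply, hμN n n.2, Units.val_one, one_mul]
    exact congrFun hfun₁ n
  have hres₀ : IsIrrCharacter N (fun n : N => (toFn μ * χ₁) n) := hfun₀ ▸ θ.2
  refine ⟨toFn μ * χ₁, irr_of_restrict_irr N hχ₀c hres₀, congrFun hfun₀, ?_, hμdet⟩
  intro c hc
  have h1 := cong_of_isKappa_one hM Q hχ₁c hres₁ hc (hlk c (Subgroup.mem_sup_right hc))
  have hμint : ∀ g, IsIntegral ℤ (μ g : ℂ) := fun g =>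
    IsIntegral.of_pow (pow_pos hp.pos e)
      (by rw [← Units.val_pow_eq_pow_val, hμp, Units.val_one]; exact isIntegral_one)
  have hμR : ∀ g, MemLocalRing M (μ g : ℂ) := fun g =>
    memLocalRing_of_isIntegral hMm.isPrime (hμint g)
  have hμ1 : ∀ g, redC M (μ g : ℂ) = 1 := by
    intro g
    have h2 := Cfsg.Agent.S4488.one_sub_root_mem hM (μ := (μ g : ℂ)) (s := e)
      (by rw [← Units.val_pow_eq_pow_val, hμp, Units.val_one])
    have h3 := (redC_eq_iff (memLocalRing_one hMm.isPrime) (hμR g)).2 h2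
    rw [← h3, redC_one]
  rw [Pi.mul_apply, Pi.mul_apply, toFn_apply, toFn_apply, redC_mul (hμR c) (char_mem_loc hχ₁c c),
    redC_mul (hμR 1) (char_mem_loc hχ₁c 1), hμ1, hμ1, h1]

end cent

end

end Cfsg.Agent.Lib.Helper16
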