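import Cfsg.Agent.Lib.Helper16.RO_PL
import Cfsg.Agent.Lib.Helper15.Gallagher
import Cfsg.Agent.Lib.Helper81.FSChar

set_option autoImplicit false

namespace Cfsg.Agent.Lib.Helper16.RO

open Cfsg Cfsg.Agent.Lib Cfsg.Agent.Lib.Helper15 Cfsg.Agent.Lib.Helper68.RO
open scoped ComplexConjugate

/-- PIECE A1. -/
theorem ker_of_odd {X : Type*} [Group X] [Fintype X] (K : Subgroup X) [K.Normal]
    (hK : Odd (Nat.card K)) {χ : X → ℂ} (hχ : IsIrrCharacter X χ) (h : RealOdd χ) :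
    ∀ k ∈ K, χ k = χ 1 := by
  classical
  have hres : IsCharacter K (fun n : K => χ n) := char_restrict (irr_char hχ) K
  have hro : RealOdd (fun n : K => χ n) := ⟨fun g => h.1 g, h.2⟩
  obtain ⟨θ, hθ, hθro, hne⟩ := exists_realOdd_constituent hres hro
  have h1 : θ = fun _ => 1 := Helper81.IsIrrCharacter.eq_one_of_real_of_odd hK hθ hθro.1
  rw [h1] at hne
  intro k hk
  exact (restrict_eq_of_inner_one_ne_zero K hχ hne).2 ⟨k, hk⟩

end Cfsg.Agent.Lib.Helper16.RO
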