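import Cfsg.Agent.Lib.Helper16.RO_PL
import Cfsg.Agent.Lib.Helper78.DefectZero

set_option autoImplicit false

namespace Cfsg.Agent.Lib.Helper16.RO

open Cfsg Cfsg.Agent.Lib Cfsg.Agent.Lib.Helper15 Cfsg.Agent.Lib.Helper68.RO
open scoped ComplexConjugate

/-- a real character of odd degree has a real linear constituent on a Sylow 2-subgroup. -/
theorem exists_real_linear_constituent {G : Type*} [Group G] [Fintype G] (P : Sylow 2 G)
    [Fintype ↥(P : Subgroup G)] {X : Subgroup G} (hPX : (P : Subgroup G) ≤ X) {χ : X → ℂ} (hχ : IsCharacter X χ)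
    (h : RealOdd χ) :
    ∃ μ : ↥(P : Subgroup G) → ℂ, IsIrrCharacter ↥(P : Subgroup G) μ ∧ (∀ x, (μ x).im = 0) ∧ μ 1 = 1 ∧
      classInner (resFun hPX χ) μ ≠ 0 := by
  classical
  have hres : IsCharacter (P : Subgroup G) (resFun hPX χ) := char_resFun hPX hχ
  have hro : RealOdd (resFun hPX χ) := ⟨fun g => h.1 _, h.2⟩
  obtain ⟨μ, hμ, hμro, hne⟩ := exists_realOdd_constituent hres hro
  refine ⟨μ, hμ, hμro.1, ?_, hne⟩
  have h1 : charDegree μ ∣ Nat.card (P : Subgroup G) :=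
    Helper78.irr_charDegree_dvd_card (⟨μ, hμ⟩ : IrrCharacter (P : Subgroup G))
  haveI : Fact (Nat.Prime 2) := ⟨Nat.prime_two⟩
  obtain ⟨k, hk⟩ := (IsPGroup.iff_card (p := 2)).mp P.isPGroup'
  rw [hk] at h1
  obtain ⟨j, -, hj⟩ := (Nat.dvd_prime_pow Nat.prime_two).mp h1
  have hj0 : j = 0 := by
    by_contra hj0
    have : Even (charDegree μ) := by
      rw [hj]
      exact (Nat.even_pow.mpr ⟨even_two, hj0⟩)
    exact (Nat.not_even_iff_odd.mpr hμro.2) this
  rw [hj0, pow_zero] at hj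
  rw [Helper80.char_one_eq_charDegree (irr_char hμ), hj]
  simp

variable {G : Type*} [Group G] [Fintype G] (M : Subgroup G) [M.Normal] [Fintype M]

/-- PIECE B1a. -/
theorem exists_lam_under (hM : IsPGroup 2 M) (P : Sylow 2 G) {X : Subgroup G}
    (hPX : (P : Subgroup G) ≤ X) (hMX : M ≤ X) {χ : X → ℂ} (hχ : IsIrrCharacter X χ)
    (h : RealOdd χ) :
    ∃ a : Lam M (P : Subgroup G), classInner (resFun hMX χ) (a.1 : M → ℂ) ≠ 0 := by
  classical
  haveI : Fact (Nat.Prime 2) := ⟨Nat.prime_two⟩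
  have hMP : M ≤ (P : Subgroup G) := hM.le_sylow_of_normal P
  haveI : Fintype ↥(P : Subgroup G) := Fintype.ofFinite _
  obtain ⟨μ, hμ, hμr, hμ1, hne⟩ := exists_real_linear_constituent P hPX (irr_char hχ) h
  have hlamc : IsCharacter M (resFun hMP μ) := char_resFun hMP (irr_char hμ)
  have hlam1 : resFun hMP μ 1 = 1 := hμ1
  have hlam : IsIrrCharacter M (resFun hMP μ) := irr_of_linear hlamc hlam1
  refine ⟨⟨⟨resFun hMP μ, hlam⟩, fun m => hμr _, hlam1, ?_⟩, ?_⟩
  · intro x hx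
    funext m
    have hcf := irr_cf hμ
    show μ ⟨x * (m : G) * x⁻¹, _⟩ = μ ⟨(m : G), _⟩
    have := hcf ⟨(m : G), hMP m.2⟩ ⟨x, hx⟩
    exact this
  · have h1 := inner_ne_zero_of_constituent (resFunLin hMP) (fun γ hγ => char_resFun hMP hγ)
      (char_resFun hPX (irr_char hχ)) hμ hne (irr_char hlam)
      (by rw [resFunLin_apply, irr_inner_self hlam]; exact one_ne_zero)
    exact h1

end Cfsg.Agent.Lib.Helper16.RO
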