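import Cfsg.Agent.Lib.Helper68.RO.Defs
import Cfsg.Agent.Lib.Helper80.Constituent

set_option autoImplicit false

namespace Cfsg.Agent.Lib.Helper16.RO

open Cfsg Cfsg.Agent.Lib Cfsg.Agent.Lib.Helper15 Cfsg.Agent.Lib.Helper68.RO
open scoped ComplexConjugate

theorem charDegree_conj {X : Type*} [Group X] {χ : X → ℂ} (hχ : IsCharacter X χ) :
    charDegree (fun g => conj (χ g)) = charDegree χ := by
  have h1 := Helper80.char_one_eq_charDegree hχ
  unfold charDegree
  simp only [h1, Complex.conj_natCast]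

/-- PIECE PL (parity lemma). -/
theorem exists_realOdd_constituent {X : Type*} [Group X] [Fintype X] {Φ : X → ℂ}
    (hΦ : IsCharacter X Φ) (h : RealOdd Φ) :
    ∃ χ : X → ℂ, IsIrrCharacter X χ ∧ RealOdd χ ∧ classInner Φ χ ≠ 0 := by
  classical
  obtain ⟨m, hm, -, hdeg⟩ := Helper80.exists_mult_spec hΦ
  by_contra hcon
  push_neg at hcon
  have hreal : (fun x => conj (Φ x)) = Φ := by
    funext x
    exact Complex.conj_eq_iff_im.2 (h.1 x)
  have hmstar : ∀ ψ : IrrCharacter X, m (starIrr ψ) = m ψ := by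
    intro ψ
    have h2 : classInner Φ ((starIrr ψ : IrrCharacter X) : X → ℂ) =
        conj (classInner Φ (ψ : X → ℂ)) := by
      rw [← classInner_conj_conj, hreal]
      rfl
    rw [hm, hm, Complex.conj_natCast] at h2
    exact_mod_cast h2
  have hdstar : ∀ ψ : IrrCharacter X,
      charDegree ((starIrr ψ : IrrCharacter X) : X → ℂ) = charDegree (ψ : X → ℂ) :=
    fun ψ => charDegree_conj (irr_char ψ.2)
  have hz : ∑ ψ : IrrCharacter X, ((m ψ : ZMod 2) * (charDegree (ψ : X → ℂ) : ZMod 2)) = 0 := by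
    refine Finset.sum_involution (fun ψ _ => starIrr ψ) ?_ ?_ (fun _ _ => Finset.mem_univ _) ?_
    · intro ψ _
      rw [hmstar, hdstar]
      exact CharTwo.add_self_eq_zero _
    · intro ψ _ hne heq
      apply hne
      have hr := (starIrr_eq_iff ψ).1 heq
      by_cases hodd : Odd (charDegree (ψ : X → ℂ))
      · have h0 := hcon ψ ψ.2 ⟨hr, hodd⟩
        rw [hm] at h0
        have : m ψ = 0 := by exact_mod_cast h0
        rw [this]; simp
      · have hev : Even (charDegree (ψ : X → ℂ)) := Nat.not_odd_iff_even.mp hodd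
        have : ((charDegree (ψ : X → ℂ) : ℕ) : ZMod 2) = 0 :=
          (ZMod.natCast_eq_zero_iff_even).mpr hev
        rw [this, mul_zero]
    · intro ψ _
      apply Subtype.ext
      funext g
      simp [starIrr]
  have h3 : ((charDegree Φ : ℕ) : ZMod 2) = 0 := by
    rw [hdeg]
    push_cast
    exact hz
  have h4 : Even (charDegree Φ) := (ZMod.natCast_eq_zero_iff_even).mp h3
  exact (Nat.not_even_iff_odd.mpr h.2) h4

end Cfsg.Agent.Lib.Helper16.RO
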