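import Cfsg.Agent.Lib.Lead.ReeAbs.Ax

/-!
# The torus of order `(q+1)/4` in a group of Ree type: the abstract part

General lemmas (pairs of involutions, Sylow conjugacy of elements inside a subgroup, conjugates of
centralizers).
-/

set_option autoImplicit false

namespace Cfsg.Agent.Lib.Helper16.ReeTor

open Subgroup
open scoped Pointwise

universe u

variable {G : Type u} [Group G]

theorem mem_cent_pair {u v y : G} :
    y ∈ centralizer ({u, v} : Set G) ↔ u * y = y * u ∧ v * y = y * v := by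
  simp [mem_centralizer_iff]

theorem mem_cent_single {u y : G} :
    y ∈ centralizer ({u} : Set G) ↔ u * y = y * u := by
  simp [mem_centralizer_iff]

theorem inv_eq_self_of_sq {s : G} (hs : s * s = 1) : s⁻¹ = s :=
  inv_eq_of_mul_eq_one_left hs

/-- two involutions are conjugate in the group they generate, or commute with a common involution -/
theorem invol_pair [Finite G] (X : Subgroup G) {s t : G} (hs : s * s = 1) (ht : t * t = 1)
    (hsX : s ∈ X) (htX : t ∈ X) :
    (∃ h ∈ X, h * s * h⁻¹ = t) ∨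
      (∃ w ∈ X, w ≠ 1 ∧ w * w = 1 ∧ w * s = s * w ∧ w * t = t * w) := by
  have hsi := inv_eq_self_of_sq hs
  have hti := inv_eq_self_of_sq ht
  set y := s * t with hy
  have hyX : y ∈ X := X.mul_mem hsX htX
  have hyi : y⁻¹ = t * s := by rw [hy, mul_inv_rev, hsi, hti]
  have hsy : s * y * s⁻¹ = y⁻¹ := by
    rw [hyi, hy, hsi]
    calc s * (s * t) * s = (s * s) * t * s := by group
      _ = t * s := by rw [hs, one_mul]
  have hty : t * y * t⁻¹ = y⁻¹ := by
    rw [hyi, hy, hti]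
    calc t * (s * t) * t = t * s * (t * t) := by group
      _ = t * s := by rw [ht, mul_one]
  have hn : 0 < orderOf y := orderOf_pos y
  obtain ⟨l, hl | hl⟩ := Nat.even_or_odd' (orderOf y)
  · right
    have hw2 : y ^ l * y ^ l = 1 := by
      rw [← pow_add, ← two_mul, ← hl, pow_orderOf_eq_one]
    have hwi : (y ^ l)⁻¹ = y ^ l := inv_eq_self_of_sq hw2
    refine ⟨y ^ l, X.pow_mem hyX l, ?_, hw2, ?_, ?_⟩
    · exact pow_ne_one_of_lt_orderOf (by omega) (by omega)
    · have h1 : s * y ^ l * s⁻¹ = y ^ l := by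
        rw [← conj_pow, hsy, inv_pow, hwi]
      exact (mul_inv_eq_iff_eq_mul.1 h1).symm
    · have h1 : t * y ^ l * t⁻¹ = y ^ l := by
        rw [← conj_pow, hty, inv_pow, hwi]
      exact (mul_inv_eq_iff_eq_mul.1 h1).symm
  · left
    refine ⟨s * (y ^ l)⁻¹, X.mul_mem hsX (X.inv_mem (X.pow_mem hyX l)), ?_⟩
    have h1 : s * y ^ l * s⁻¹ = (y ^ l)⁻¹ := by
      rw [← conj_pow, hsy, inv_pow]
    have h2 : y ^ l * y ^ l = y⁻¹ := by
      rw [eq_inv_iff_mul_eq_one, ← pow_add, ← pow_succ, ← two_mul, ← hl, pow_orderOf_eq_one]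
    calc s * (y ^ l)⁻¹ * s * (s * (y ^ l)⁻¹)⁻¹
        = s * (s * y ^ l * s⁻¹) * s * (s * (y ^ l)⁻¹)⁻¹ := by rw [h1]
      _ = (s * s) * (y ^ l * y ^ l) * s⁻¹ := by group
      _ = t := by rw [hs, h2, hyi, hsi, one_mul, mul_assoc, hs, mul_one]

/-- conjugating a centralizer of a pair -/
theorem card_cent_pair_conj (g u v : G) :
    Nat.card (centralizer ({g * u * g⁻¹, g * v * g⁻¹} : Set G)) =
      Nat.card (centralizer ({u, v} : Set G)) := by
  refine Nat.card_congr
    { toFun := fun y => ⟨g⁻¹ * y.1 * g, ?_⟩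
      invFun := fun y => ⟨g * y.1 * g⁻¹, ?_⟩
      left_inv := fun y => by ext; simp [mul_assoc]
      right_inv := fun y => by ext; simp [mul_assoc] }
  · obtain ⟨h1, h2⟩ := mem_cent_pair.1 y.2
    refine mem_cent_pair.2 ⟨?_, ?_⟩
    · calc u * (g⁻¹ * y.1 * g) = g⁻¹ * ((g * u * g⁻¹) * y.1) * g := by group
        _ = g⁻¹ * y.1 * g * u := by rw [h1]; group
    · calc v * (g⁻¹ * y.1 * g) = g⁻¹ * ((g * v * g⁻¹) * y.1) * g := by group
        _ = g⁻¹ * y.1 * g * v := by rw [h2]; group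
  · obtain ⟨h1, h2⟩ := mem_cent_pair.1 y.2
    refine mem_cent_pair.2 ⟨?_, ?_⟩
    · calc g * u * g⁻¹ * (g * y.1 * g⁻¹) = g * (u * y.1) * g⁻¹ := by group
        _ = g * y.1 * g⁻¹ * (g * u * g⁻¹) := by rw [h1]; group
    · calc g * v * g⁻¹ * (g * y.1 * g⁻¹) = g * (v * y.1) * g⁻¹ := by group
        _ = g * y.1 * g⁻¹ * (g * v * g⁻¹) := by rw [h2]; group

/-- Sylow's theorem for cyclic Sylow subgroups of a subgroup, in terms of elements -/
theorem sylow_elem [Finite G] (H : Subgroup G) {s v c : ℕ} (hs : s.Prime) (hc : ¬ s ∣ c)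
    (hH : Nat.card H = s ^ v * c) {x y : G} (hx : x ∈ H) (hy : y ∈ H)
    (hxo : orderOf x = s ^ v) (hyo : orderOf y = s ^ v) :
    ∃ g ∈ H, g * y * g⁻¹ ∈ zpowers x := by
  haveI : Fact s.Prime := ⟨hs⟩
  have hc0 : c ≠ 0 := by rintro rfl; exact hc (dvd_zero _)
  have hfac : (Nat.card H).factorization s = v := by
    rw [hH, Nat.factorization_mul (pow_ne_zero _ hs.ne_zero) hc0]
    simp [hs.factorization_self, Nat.factorization_eq_zero_of_not_dvd hc, hs.factorization_pow]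
  have hcx : Nat.card (zpowers (⟨x, hx⟩ : H)) = s ^ (Nat.card H).factorization s := by
    rw [Nat.card_zpowers, Subgroup.orderOf_mk, hxo, hfac]
  have hcy : Nat.card (zpowers (⟨y, hy⟩ : H)) = s ^ (Nat.card H).factorization s := by
    rw [Nat.card_zpowers, Subgroup.orderOf_mk, hyo, hfac]
  set P : Sylow s H := Sylow.ofCard _ hcx with hP
  set Q : Sylow s H := Sylow.ofCard _ hcy with hQ
  obtain ⟨g, hg⟩ := MulAction.exists_smul_eq H Q P
  refine ⟨g.1, g.2, ?_⟩
  have h1 : (⟨y, hy⟩ : H) ∈ (Q : Subgroup H) := by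
    rw [hQ, Sylow.coe_ofCard]; exact mem_zpowers _
  have h2 : MulAut.conj g • (⟨y, hy⟩ : H) ∈ MulAut.conj g • (Q : Subgroup H) :=
    Subgroup.smul_mem_pointwise_smul _ _ _ h1
  rw [← Sylow.coe_subgroup_smul, hg, hP, Sylow.coe_ofCard, MulAut.smul_def,
    MulAut.conj_apply] at h2
  obtain ⟨n, hn⟩ := mem_zpowers_iff.1 h2
  refine mem_zpowers_iff.2 ⟨n, ?_⟩
  have := congrArg Subtype.val hn
  simpa using this

end Cfsg.Agent.Lib.Helper16.ReeTor
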