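import Cfsg.Agent.Lib.Helper16.ReeTorA

/-!
# The torus of order `(q+1)/4` in a group of Ree type: the abstract argument
-/

set_option autoImplicit false

namespace Cfsg.Agent.Lib.Helper16.ReeTor

open Subgroup

universe u

variable {G : Type u} [Group G]

/-- the hypotheses: `a` an involution, `t0` of order `2k` in `C(a)`, `k` odd. -/
structure Data (G : Type u) [Group G] (a t0 : G) (k : ℕ) : Prop where
  hk : Odd k
  hk1 : 1 < k
  ha1 : a ≠ 1
  ha2 : a * a = 1
  hat : a * t0 = t0 * a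
  ht0 : orderOf t0 = 2 * k
  hnot : a ∉ zpowers t0
  conj : ∀ t : G, t ≠ 1 → t * t = 1 → ∃ g : G, g * a * g⁻¹ = t
  hb : ∀ x : G, a * x = x * a → x ≠ 1 → x ^ k = 1 →
    Nat.card (centralizer ({a, x} : Set G)) = 4 * k
  hd : Nat.card (centralizer ({a, t0 ^ k} : Set G)) = 8 * k
  he : ∀ g : G, g * a = a * g → g * t0 ^ k * g⁻¹ ≠ a * t0 ^ k
  h3 : ∀ x y : G, orderOf y = 3 → x * y = y * x → x ^ k = 1 → x = 1
  hC : ∃ c' : ℕ, Nat.card (centralizer ({a} : Set G)) = k * c' ∧ k.Coprime c'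

namespace Data

variable {a t0 : G} {k : ℕ} (D : Data G a t0 k)

/-- the centralizer of the torus -/
def A1 (_ : Data G a t0 k) : Subgroup G := centralizer ({a, t0 ^ 2} : Set G)

include D

theorem kpos : 0 < k := by have := D.hk1; omega

theorem orderOf_z : orderOf (t0 ^ 2) = k := by
  rw [orderOf_pow_of_dvd (by norm_num) (by rw [D.ht0]; exact dvd_mul_right _ _), D.ht0]
  simp

theorem z_ne : t0 ^ 2 ≠ 1 := by
  intro h
  have := D.orderOf_z
  rw [h, orderOf_one] at this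
  have := D.hk1
  omega

theorem z_pow : (t0 ^ 2) ^ k = 1 := by
  rw [← D.orderOf_z, pow_orderOf_eq_one]

theorem comm_a_pow (n : ℕ) : a * t0 ^ n = t0 ^ n * a :=
  (Commute.pow_right (show Commute a t0 from D.hat) n).eq

theorem comm_a_zpow (n : ℤ) : a * t0 ^ n = t0 ^ n * a :=
  (Commute.zpow_right (show Commute a t0 from D.hat) n).eq

theorem card_A1 : Nat.card D.A1 = 4 * k :=
  D.hb _ (D.comm_a_pow 2) D.z_ne D.z_pow

theorem a_mem : a ∈ D.A1 := mem_cent_pair.2 ⟨rfl, (D.comm_a_pow 2).symm⟩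

theorem t0_mem : t0 ∈ D.A1 := mem_cent_pair.2 ⟨D.hat, by rw [← pow_succ, ← pow_succ']⟩

theorem zpowers_le : zpowers t0 ≤ D.A1 := by
  rw [Subgroup.zpowers_le]; exact D.t0_mem

theorem comm_a_of_mem {x : G} (hx : x ∈ D.A1) : a * x = x * a := (mem_cent_pair.1 hx).1

theorem mem_cases [Finite G] {x : G} (hx : x ∈ D.A1) : x ∈ zpowers t0 ∨ a * x ∈ zpowers t0 := by
  have hidx : ((zpowers t0).subgroupOf D.A1).index = 2 := by
    have h1 := Subgroup.card_mul_index ((zpowers t0).subgroupOf D.A1)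
    rw [D.card_A1, Nat.card_congr (Subgroup.subgroupOfEquivOfLe D.zpowers_le).toEquiv,
      Nat.card_zpowers, D.ht0] at h1
    have := D.kpos
    nlinarith
  by_cases hx' : x ∈ zpowers t0
  · exact Or.inl hx'
  · right
    have h := Subgroup.mul_mem_iff_of_index_two hidx (a := ⟨a, D.a_mem⟩) (b := ⟨x, hx⟩)
    simp only [Subgroup.mem_subgroupOf, Subgroup.coe_mul] at h
    exact h.2 ⟨fun h' => absurd h' D.hnot, fun h' => absurd h' hx'⟩

theorem comm_t0 [Finite G] {y : G} (hy : y ∈ D.A1) : Commute y t0 := by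
  rcases D.mem_cases hy with h | h
  · obtain ⟨n, rfl⟩ := mem_zpowers_iff.1 h
    exact (Commute.refl t0).zpow_left n
  · obtain ⟨n, hn⟩ := mem_zpowers_iff.1 h
    have h1 : y = a * t0 ^ n := by rw [hn, ← mul_assoc, D.ha2, one_mul]
    rw [h1]
    exact Commute.mul_left D.hat ((Commute.refl t0).zpow_left n)

theorem comm [Finite G] {x y : G} (hx : x ∈ D.A1) (hy : y ∈ D.A1) : x * y = y * x := by
  have hya : Commute y a := (D.comm_a_of_mem hy).symm
  suffices h : Commute y x from h.eq.symm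
  rcases D.mem_cases hx with h | h
  · obtain ⟨n, rfl⟩ := mem_zpowers_iff.1 h
    exact (D.comm_t0 hy).zpow_right n
  · obtain ⟨n, hn⟩ := mem_zpowers_iff.1 h
    have h1 : x = a * t0 ^ n := by rw [hn, ← mul_assoc, D.ha2, one_mul]
    rw [h1]
    exact Commute.mul_right hya ((D.comm_t0 hy).zpow_right n)

theorem A0_le : zpowers (t0 ^ 2) ≤ D.A1 := by
  rw [Subgroup.zpowers_le]; exact D.A1.pow_mem D.t0_mem 2

theorem pow_of_mem_A0 {x : G} (hx : x ∈ zpowers (t0 ^ 2)) : x ^ k = 1 := by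
  obtain ⟨n, rfl⟩ := mem_zpowers_iff.1 hx
  rw [← zpow_natCast, ← zpow_mul, mul_comm, zpow_mul, zpow_natCast, D.z_pow, one_zpow]

theorem j_sq : t0 ^ k * t0 ^ k = 1 := by
  rw [← pow_add, ← two_mul, ← D.ht0, pow_orderOf_eq_one]

theorem j_ne : t0 ^ k ≠ 1 :=
  pow_ne_one_of_lt_orderOf D.kpos.ne' (by rw [D.ht0]; have := D.kpos; omega)

theorem j_mem : t0 ^ k ∈ D.A1 := D.A1.pow_mem D.t0_mem k

theorem a_ne_j : a ≠ t0 ^ k := fun h => D.hnot (h ▸ (zpowers t0).pow_mem (mem_zpowers t0) k)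

/-- involutions of `zpowers t0` -/
theorem invol_zpowers {i : G} (hi : i ∈ zpowers t0) (h2 : i * i = 1) : i = 1 ∨ i = t0 ^ k := by
  obtain ⟨n, rfl⟩ := mem_zpowers_iff.1 hi
  rw [← zpow_add, ← two_mul] at h2
  have h1 : ((2 * k : ℕ) : ℤ) ∣ 2 * n := by
    rw [← D.ht0]; exact orderOf_dvd_iff_zpow_eq_one.2 h2
  have h3 : (k : ℤ) ∣ n := by
    push_cast at h1
    exact (mul_dvd_mul_iff_left (by norm_num)).1 h1
  obtain ⟨c, rfl⟩ := h3
  rw [zpow_mul, zpow_natCast]
  rcases Int.even_or_odd' c with ⟨e, rfl | rfl⟩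
  · left
    rw [zpow_mul, zpow_two, D.j_sq, one_zpow]
  · right
    rw [zpow_add, zpow_mul, zpow_two, D.j_sq, one_zpow, one_mul, zpow_one]

/-- involutions of `A1` -/
theorem invol_cases [Finite G] {i : G} (hi : i ∈ D.A1) (h2 : i * i = 1) :
    i = 1 ∨ i = a ∨ i = t0 ^ k ∨ i = a * t0 ^ k := by
  rcases D.mem_cases hi with h | h
  · rcases D.invol_zpowers h h2 with h | h
    · exact Or.inl h
    · exact Or.inr (Or.inr (Or.inl h))
  · have h4 : a * i * (a * i) = 1 := by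
      calc a * i * (a * i) = a * (i * a) * i := by group
        _ = a * (a * i) * i := by rw [D.comm_a_of_mem hi]
        _ = (a * a) * (i * i) := by group
        _ = 1 := by rw [D.ha2, h2, one_mul]
    have h5 : ∀ w : G, a * i = w → i = a * w := by
      rintro w rfl; rw [← mul_assoc, D.ha2, one_mul]
    rcases D.invol_zpowers h h4 with h | h
    · right; left; rw [h5 _ h, mul_one]
    · right; right; right; exact h5 _ h

/-- `A0` is the set of elements of `A1` of order dividing `k` -/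
theorem mem_A0_of_pow [Finite G] {x : G} (hx : x ∈ D.A1) (hxk : x ^ k = 1) : x ∈ zpowers (t0 ^ 2) := by
  rcases D.mem_cases hx with h | h
  · obtain ⟨n, rfl⟩ := mem_zpowers_iff.1 h
    rw [← zpow_natCast, ← zpow_mul] at hxk
    have h1 : ((2 * k : ℕ) : ℤ) ∣ n * k := by
      rw [← D.ht0]; exact orderOf_dvd_iff_zpow_eq_one.2 hxk
    have h3 : (2 : ℤ) ∣ n := by
      push_cast at h1
      have hk0 : (k : ℤ) ≠ 0 := by exact_mod_cast D.kpos.ne'
      exact (mul_dvd_mul_iff_right hk0).1 h1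
    obtain ⟨c, rfl⟩ := h3
    exact mem_zpowers_iff.2 ⟨c, by rw [zpow_mul, zpow_two, pow_two]⟩
  · exfalso
    have h1 : (a * x) ^ k = a := by
      rw [(show Commute a x from D.comm_a_of_mem hx).mul_pow, hxk, mul_one]
      obtain ⟨c, hc⟩ := D.hk
      rw [hc, pow_succ, pow_mul, pow_two, D.ha2, one_pow, one_mul]
    exact D.hnot (h1 ▸ (zpowers t0).pow_mem h k)

theorem cent_invol [Finite G] {i x : G} (hi : i ∈ D.A1) (hi1 : i ≠ 1) (hi2 : i * i = 1)
    (hx : x ∈ zpowers (t0 ^ 2)) (hx1 : x ≠ 1) : centralizer ({i, x} : Set G) = D.A1 := by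
  have hxA := D.A0_le hx
  have hle : D.A1 ≤ centralizer ({i, x} : Set G) :=
    fun y hy => mem_cent_pair.2 ⟨D.comm hi hy, D.comm hxA hy⟩
  obtain ⟨g, hg⟩ := D.conj i hi1 hi2
  have hcard : Nat.card (centralizer ({i, x} : Set G)) = 4 * k := by
    have h1 := card_cent_pair_conj g a (g⁻¹ * x * g)
    have h2 : g * (g⁻¹ * x * g) * g⁻¹ = x := by group
    rw [hg, h2] at h1
    rw [h1]
    apply D.hb
    · have h3 : i * x = x * i := D.comm hi hxA
      rw [← hg] at h3
      calc a * (g⁻¹ * x * g) = g⁻¹ * ((g * a * g⁻¹) * x) * g := by group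
        _ = g⁻¹ * x * g * a := by rw [h3]; group
    · intro h
      apply hx1
      rw [← h2, h]; group
    · have h3 : g⁻¹ * x * g = g⁻¹ * x * g⁻¹⁻¹ := by rw [inv_inv]
      rw [h3, conj_pow, D.pow_of_mem_A0 hx]; group
  exact (Subgroup.eq_of_le_of_card_ge hle (by rw [hcard, D.card_A1])).symm

omit D in
theorem klein_third {a j : G} (haa : a * a = 1) (hjj : j * j = 1) (hc : a * j = j * a) {i i' c : G}
    (hi : i = a ∨ i = j ∨ i = a * j) (hi' : i' = a ∨ i' = j ∨ i' = a * j)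
    (hc' : c = a ∨ c = j ∨ c = a * j) (hne : i ≠ i') : c = i ∨ c = i' ∨ c = i * i' := by
  have h1 : ∀ x, a * (a * x) = x := fun x => by rw [← mul_assoc, haa, one_mul]
  have h2 : ∀ x, j * (j * x) = x := fun x => by rw [← mul_assoc, hjj, one_mul]
  have h3 : ∀ x, j * (a * x) = a * (j * x) := fun x => by rw [← mul_assoc, ← hc, mul_assoc]
  rcases hi with rfl | rfl | rfl <;> rcases hi' with rfl | rfl | rfl <;>
    rcases hc' with rfl | rfl | rfl <;>
    first
    | exact absurd rfl hne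
    | exact Or.inl rfl
    | exact Or.inr (Or.inl rfl)
    | (right; right; simp only [mul_assoc, h1, h2, h3, ← hc, haa, hjj, mul_one])

theorem third [Finite G] {i i' c : G} (hi : i ∈ D.A1) (hi1 : i ≠ 1) (hi2 : i * i = 1)
    (hi' : i' ∈ D.A1) (hi1' : i' ≠ 1) (hi2' : i' * i' = 1)
    (hc : c ∈ D.A1) (hc1 : c ≠ 1) (hc2 : c * c = 1) (hne : i ≠ i') :
    c = i ∨ c = i' ∨ c = i * i' :=
  klein_third D.ha2 D.j_sq (D.comm_a_pow k)
    ((D.invol_cases hi hi2).resolve_left hi1) ((D.invol_cases hi' hi2').resolve_left hi1')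
    ((D.invol_cases hc hc2).resolve_left hc1) hne

theorem no_fusion [Finite G] {i i' x g : G} (hi : i ∈ D.A1) (hi1 : i ≠ 1) (hi2 : i * i = 1)
    (hi' : i' ∈ D.A1) (hx : x ∈ zpowers (t0 ^ 2)) (hx1 : x ≠ 1) (hg : g * x = x * g)
    (hgi : g * i * g⁻¹ = i') : i = i' := by
  by_contra hne
  have hi1' : i' ≠ 1 := by
    intro h
    apply hi1
    rw [h] at hgi
    calc i = g⁻¹ * (g * i * g⁻¹) * g := by group
      _ = 1 := by rw [hgi]; group
  have hi2' : i' * i' = 1 := by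
    rw [← hgi]
    calc g * i * g⁻¹ * (g * i * g⁻¹) = g * (i * i) * g⁻¹ := by group
      _ = 1 := by rw [hi2]; group
  have hii : i * i' = i' * i := D.comm hi hi'
  have hgx : g * x * g⁻¹ = x := by rw [hg]; group
  set c := g * i' * g⁻¹ with hc
  have hcA : c ∈ D.A1 := by
    rw [← D.cent_invol hi' hi1' hi2' hx hx1]
    refine mem_cent_pair.2 ⟨?_, ?_⟩
    · rw [hc]
      nth_rewrite 1 [← hgi]
      nth_rewrite 3 [← hgi]
      calc g * i * g⁻¹ * (g * i' * g⁻¹) = g * (i * i') * g⁻¹ := by group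
        _ = g * i' * g⁻¹ * (g * i * g⁻¹) := by rw [hii]; group
    · rw [hc]
      have h1 : x * i' = i' * x := D.comm (D.A0_le hx) hi'
      nth_rewrite 1 [← hgx]
      nth_rewrite 2 [← hgx]
      calc g * x * g⁻¹ * (g * i' * g⁻¹) = g * (x * i') * g⁻¹ := by group
        _ = g * i' * g⁻¹ * (g * x * g⁻¹) := by rw [h1]; group
  have hc1 : c ≠ 1 := by
    intro h
    apply hi1'
    calc i' = g⁻¹ * (g * i' * g⁻¹) * g := by group
      _ = 1 := by rw [← hc, h]; group
  have hc2 : c * c = 1 := by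
    rw [hc]
    calc g * i' * g⁻¹ * (g * i' * g⁻¹) = g * (i' * i') * g⁻¹ := by group
      _ = 1 := by rw [hi2']; group
  have hci' : c ≠ i' := by
    intro h
    apply hne
    have h' : g * i' * g⁻¹ = g * i * g⁻¹ := by rw [← hc, h, hgi]
    have h2 : g * i' = g * i := mul_right_cancel h'
    exact (mul_left_cancel h2).symm
  have h3A : i * i' ∈ D.A1 := D.A1.mul_mem hi hi'
  have h31 : i * i' ≠ 1 := by
    intro h
    apply hne
    rw [← inv_eq_self_of_sq hi2']
    exact eq_inv_of_mul_eq_one_left h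
  have h32 : i * i' * (i * i') = 1 := by
    calc i * i' * (i * i') = i * (i' * i) * i' := by group
      _ = (i * i) * (i' * i') := by rw [← hii]; group
      _ = 1 := by rw [hi2, hi2', one_mul]
  have hg3 : g * (i * i') * g⁻¹ = i' * c := by
    rw [hc, ← hgi]; group
  rcases D.third hi hi1 hi2 hi' hi1' hi2' hcA hc1 hc2 hne with h | h | h
  · -- g swaps i and i'
    rw [h, ← hii] at hg3
    have hgA : g ∈ D.A1 := by
      rw [← D.cent_invol h3A h31 h32 hx hx1]
      refine mem_cent_pair.2 ⟨?_, hg.symm⟩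
      exact (mul_inv_eq_iff_eq_mul.1 hg3).symm
    apply hne
    rw [← hgi, D.comm hgA hi]; group
  · exact hci' h
  · -- g is a 3-cycle
    have hg3' : g * (i * i') * g⁻¹ = i := by
      rw [hg3, h, hii, ← mul_assoc, hi2', one_mul]
    have hcube : g ^ 3 * i * (g ^ 3)⁻¹ = i := by
      calc g ^ 3 * i * (g ^ 3)⁻¹ = g * (g * (g * i * g⁻¹) * g⁻¹) * g⁻¹ := by
            simp only [pow_succ, pow_zero, one_mul, mul_inv_rev, mul_assoc]
        _ = i := by rw [hgi, ← hc, h, hg3']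
    by_cases h3 : 3 ∣ orderOf g
    · have ho : orderOf (g ^ (orderOf g / 3)) = 3 :=
        orderOf_pow_orderOf_div (orderOf_pos g).ne' h3
      apply hx1
      refine D.h3 x _ ho ?_ (D.pow_of_mem_A0 hx)
      exact ((show Commute g x from hg).pow_left _).eq.symm
    · have hcop : Nat.Coprime 3 (orderOf g) := (Nat.Prime.coprime_iff_not_dvd Nat.prime_three).2 h3
      obtain ⟨m, hm⟩ := exists_pow_eq_self_of_coprime hcop
      have h4 : Commute (g ^ 3) i := mul_inv_eq_iff_eq_mul.1 hcube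
      have h5 : Commute g i := by
        rw [← hm]; exact h4.pow_left m
      apply hne
      rw [← hgi, h5.eq]; group

/-- the main claim: `C(x) = A1` for `1 ≠ x ∈ A0` -/
theorem cent_eq [Finite G] {x : G} (hx : x ∈ zpowers (t0 ^ 2)) (hx1 : x ≠ 1) :
    centralizer ({x} : Set G) = D.A1 := by
  apply le_antisymm
  · intro g hg
    have hg' : x * g = g * x := mem_cent_single.1 hg
    have haX : a ∈ centralizer ({x} : Set G) := mem_cent_single.2 (D.comm (D.A0_le hx) D.a_mem)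
    have hjX : t0 ^ k ∈ centralizer ({x} : Set G) :=
      mem_cent_single.2 (D.comm (D.A0_le hx) D.j_mem)
    have hj'X : g * t0 ^ k * g⁻¹ ∈ centralizer ({x} : Set G) :=
      (centralizer ({x} : Set G)).mul_mem ((centralizer ({x} : Set G)).mul_mem hg hjX)
        ((centralizer ({x} : Set G)).inv_mem hg)
    have hj'2 : g * t0 ^ k * g⁻¹ * (g * t0 ^ k * g⁻¹) = 1 := by
      calc g * t0 ^ k * g⁻¹ * (g * t0 ^ k * g⁻¹) = g * (t0 ^ k * t0 ^ k) * g⁻¹ := by group
        _ = 1 := by rw [D.j_sq]; group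
    rcases invol_pair _ D.ha2 hj'2 haX hj'X with ⟨h, hhX, hh⟩ | ⟨w, hwX, hw1, hw2, hwa, hwj⟩
    · exfalso
      apply D.a_ne_j
      refine D.no_fusion (g := g⁻¹ * h) D.a_mem D.ha1 D.ha2 D.j_mem hx hx1 ?_ ?_
      · have h1 : x * h = h * x := mem_cent_single.1 hhX
        calc g⁻¹ * h * x = g⁻¹ * (x * h) := by rw [h1]; group
          _ = g⁻¹ * (x * g) * g⁻¹ * h := by group
          _ = x * (g⁻¹ * h) := by rw [hg']; group
      · calc g⁻¹ * h * a * (g⁻¹ * h)⁻¹ = g⁻¹ * (h * a * h⁻¹) * g := by group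
          _ = t0 ^ k := by rw [hh]; group
    · have hwA : w ∈ D.A1 := by
        rw [← D.cent_invol D.a_mem D.ha1 D.ha2 hx hx1]
        exact mem_cent_pair.2 ⟨hwa.symm, mem_cent_single.1 hwX⟩
      have hj'A : g * t0 ^ k * g⁻¹ ∈ D.A1 := by
        rw [← D.cent_invol hwA hw1 hw2 hx hx1]
        exact mem_cent_pair.2 ⟨hwj, mem_cent_single.1 hj'X⟩
      have h1 := D.no_fusion D.j_mem D.j_ne D.j_sq hj'A hx hx1 hg'.symm rfl
      rw [← D.cent_invol D.j_mem D.j_ne D.j_sq hx hx1]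
      refine mem_cent_pair.2 ⟨?_, hg'⟩
      exact eq_mul_of_mul_inv_eq h1.symm ▸ rfl
  · intro y hy
    exact mem_cent_single.2 (D.comm (D.A0_le hx) hy)

end Data

end Cfsg.Agent.Lib.Helper16.ReeTor
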