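import Cfsg.Agent.Lib.Helper16.ReeTorB

/-!
# The torus of order `(q+1)/4` in a group of Ree type: normalizers and the final abstract statement
-/

set_option autoImplicit false

namespace Cfsg.Agent.Lib.Helper16.ReeTor

open Subgroup

universe u

variable {G : Type u} [Group G]

namespace Data

variable {a t0 : G} {k : ℕ} (D : Data G a t0 k)

include D

theorem conj_mem_A1 [Finite G] {x u : G} (hx : x ∈ zpowers (t0 ^ 2)) (hx1 : x ≠ 1)
    (hu : u * x * u⁻¹ ∈ zpowers (t0 ^ 2)) {h : G} (hh : h ∈ D.A1) : u * h * u⁻¹ ∈ D.A1 := by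
  have hne : u * x * u⁻¹ ≠ 1 := by
    intro h1
    apply hx1
    calc x = u⁻¹ * (u * x * u⁻¹) * u := by group
      _ = 1 := by rw [h1]; group
  rw [← D.cent_eq hu hne]
  have h1 : x * h = h * x := D.comm (D.A0_le hx) hh
  refine mem_cent_single.2 ?_
  calc u * x * u⁻¹ * (u * h * u⁻¹) = u * (x * h) * u⁻¹ := by group
    _ = u * h * u⁻¹ * (u * x * u⁻¹) := by rw [h1]; group

theorem conj_mem_A0 [Finite G] {x u : G} (hx : x ∈ zpowers (t0 ^ 2)) (hx1 : x ≠ 1)
    (hu : u * x * u⁻¹ ∈ zpowers (t0 ^ 2)) {h : G} (hh : h ∈ zpowers (t0 ^ 2)) :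
    u * h * u⁻¹ ∈ zpowers (t0 ^ 2) := by
  refine D.mem_A0_of_pow (D.conj_mem_A1 hx hx1 hu (D.A0_le hh)) ?_
  rw [conj_pow, D.pow_of_mem_A0 hh]; group

theorem mem_normalizer [Finite G] {x u : G} (hx : x ∈ zpowers (t0 ^ 2)) (hx1 : x ≠ 1)
    (hu : u * x * u⁻¹ ∈ zpowers (t0 ^ 2)) :
    u ∈ normalizer ((zpowers (t0 ^ 2) : Subgroup G) : Set G) := by
  rw [mem_normalizer_iff]
  intro h
  refine ⟨fun hh => D.conj_mem_A0 hx hx1 hu hh, fun hh => ?_⟩
  have hne : u * x * u⁻¹ ≠ 1 := by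
    intro h1
    apply hx1
    calc x = u⁻¹ * (u * x * u⁻¹) * u := by group
      _ = 1 := by rw [h1]; group
  have h2 : u⁻¹ * (u * x * u⁻¹) * u⁻¹⁻¹ ∈ zpowers (t0 ^ 2) := by
    have : u⁻¹ * (u * x * u⁻¹) * u⁻¹⁻¹ = x := by group
    rw [this]; exact hx
  have h3 := D.conj_mem_A0 hu hne h2 hh
  have h4 : u⁻¹ * (u * h * u⁻¹) * u⁻¹⁻¹ = h := by group
  rwa [h4] at h3

theorem centralizer_sub [Finite G] (A' : Subgroup G) (hle : A' ≤ zpowers (t0 ^ 2)) (hne : A' ≠ ⊥) :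
    centralizer (A' : Set G) = D.A1 := by
  obtain ⟨x, hx, hx1⟩ : ∃ x ∈ A', x ≠ 1 := by
    by_contra hcon
    push Not at hcon
    exact hne ((Subgroup.eq_bot_iff_forall _).2 hcon)
  apply le_antisymm
  · rw [← D.cent_eq (hle hx) hx1]
    exact centralizer_le (by simpa using hx)
  · intro y hy
    rw [mem_centralizer_iff]
    intro h hh
    exact D.comm (D.A0_le (hle hh)) hy

theorem A0_ne_bot : zpowers (t0 ^ 2) ≠ ⊥ := by
  rw [Ne, zpowers_eq_bot]; exact D.z_ne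

theorem normalizer_sub [Finite G] (A' : Subgroup G) (hle : A' ≤ zpowers (t0 ^ 2)) (hne : A' ≠ ⊥) :
    normalizer (A' : Set G) = normalizer ((zpowers (t0 ^ 2) : Subgroup G) : Set G) := by
  obtain ⟨x, hx, hx1⟩ : ∃ x ∈ A', x ≠ 1 := by
    by_contra hcon
    push Not at hcon
    exact hne ((Subgroup.eq_bot_iff_forall _).2 hcon)
  apply le_antisymm
  · intro g hg
    exact D.mem_normalizer (hle hx) hx1 (hle ((mem_normalizer_iff.1 hg x).1 hx))
  · have key : ∀ g ∈ normalizer ((zpowers (t0 ^ 2) : Subgroup G) : Set G), ∀ h ∈ A',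
        g * h * g⁻¹ ∈ A' := by
      intro g hg h hh
      obtain ⟨r, hr⟩ := mem_zpowers_iff.1 ((mem_normalizer_iff.1 hg _).1 (mem_zpowers (t0 ^ 2)))
      obtain ⟨n, hn⟩ := mem_zpowers_iff.1 (hle hh)
      have h1 : g * h * g⁻¹ = h ^ r := by
        rw [← hn, ← conj_zpow, ← hr, ← zpow_mul, ← zpow_mul, mul_comm]
      rw [h1]
      exact A'.zpow_mem hh r
    intro g hg
    rw [mem_normalizer_iff]
    intro h
    refine ⟨key g hg h, fun hh => ?_⟩
    have h3 := key g⁻¹ (inv_mem hg) _ hh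
    have h4 : g⁻¹ * (g * h * g⁻¹) * g⁻¹⁻¹ = h := by group
    rwa [h4] at h3

theorem A1_le_D0 [Finite G] : D.A1 ≤ centralizer ({a, t0 ^ k} : Set G) :=
  fun _ hy => mem_cent_pair.2 ⟨D.comm D.a_mem hy, D.comm D.j_mem hy⟩

theorem D0_le [Finite G] :
    centralizer ({a, t0 ^ k} : Set G) ≤ normalizer ((zpowers (t0 ^ 2) : Subgroup G) : Set G) := by
  have hidx : (D.A1.subgroupOf (centralizer ({a, t0 ^ k} : Set G))).index = 2 := by
    have h1 := Subgroup.card_mul_index (D.A1.subgroupOf (centralizer ({a, t0 ^ k} : Set G)))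
    rw [D.hd, Nat.card_congr (Subgroup.subgroupOfEquivOfLe D.A1_le_D0).toEquiv, D.card_A1] at h1
    have := D.kpos
    nlinarith
  intro g hg
  have hz : t0 ^ 2 ∈ centralizer ({a, t0 ^ k} : Set G) := D.A1_le_D0 (D.A0_le (mem_zpowers _))
  have hy : g * t0 ^ 2 * g⁻¹ ∈ centralizer ({a, t0 ^ k} : Set G) :=
    mul_mem (mul_mem hg hz) (inv_mem hg)
  have hyk : (g * t0 ^ 2 * g⁻¹) ^ k = 1 := by
    rw [conj_pow, D.z_pow]; group
  have h2 := Subgroup.sq_mem_of_index_two hidx ⟨_, hy⟩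
  simp only [Subgroup.mem_subgroupOf, Subgroup.coe_pow] at h2
  have hyA : g * t0 ^ 2 * g⁻¹ ∈ D.A1 := by
    obtain ⟨c, hc⟩ := D.hk
    have h3 : ((g * t0 ^ 2 * g⁻¹) ^ 2) ^ (c + 1) = g * t0 ^ 2 * g⁻¹ := by
      rw [← pow_mul, show 2 * (c + 1) = k + 1 by omega, pow_succ, hyk, one_mul]
    rw [← h3]
    exact D.A1.pow_mem h2 _
  exact D.mem_normalizer (mem_zpowers _) D.z_ne (D.mem_A0_of_pow hyA hyk)

theorem stab [Finite G] {g : G} (hg : g ∈ normalizer ((zpowers (t0 ^ 2) : Subgroup G) : Set G))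
    (hga : g * a = a * g) : g ∈ centralizer ({a, t0 ^ k} : Set G) := by
  have h1 : g * t0 ^ 2 * g⁻¹ ∈ zpowers (t0 ^ 2) := (mem_normalizer_iff.1 hg _).1 (mem_zpowers _)
  have h2 : g * t0 ^ k * g⁻¹ ∈ D.A1 := D.conj_mem_A1 (mem_zpowers _) D.z_ne h1 D.j_mem
  have h3 : g * t0 ^ k * g⁻¹ * (g * t0 ^ k * g⁻¹) = 1 := by
    calc g * t0 ^ k * g⁻¹ * (g * t0 ^ k * g⁻¹) = g * (t0 ^ k * t0 ^ k) * g⁻¹ := by group
      _ = 1 := by rw [D.j_sq]; group
  refine mem_cent_pair.2 ⟨hga.symm, ?_⟩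
  rcases D.invol_cases h2 h3 with h | h | h | h
  · exfalso
    apply D.j_ne
    calc t0 ^ k = g⁻¹ * (g * t0 ^ k * g⁻¹) * g := by group
      _ = 1 := by rw [h]; group
  · exfalso
    apply D.a_ne_j
    calc a = g⁻¹ * (g * a) := by group
      _ = g⁻¹ * a * g := by rw [hga]; group
      _ = g⁻¹ * (g * t0 ^ k * g⁻¹) * g := by rw [h]
      _ = t0 ^ k := by group
  · exact (mul_inv_eq_iff_eq_mul.1 h).symm
  · exact absurd h (D.he g hga)

theorem exists_conj [Finite G] {i : G} (hi : i ∈ D.A1) (hi1 : i ≠ 1) (hi2 : i * i = 1) :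
    ∃ u ∈ normalizer ((zpowers (t0 ^ 2) : Subgroup G) : Set G), u * a * u⁻¹ = i := by
  obtain ⟨s, hs, hsk⟩ := Nat.exists_prime_and_dvd (show k ≠ 1 from by have := D.hk1; omega)
  obtain ⟨v, k', hk', hkeq⟩ := Nat.exists_eq_pow_mul_and_not_dvd D.kpos.ne' s hs.ne_one
  have hk'0 : k' ≠ 0 := by rintro rfl; exact hk' (dvd_zero _)
  have hv : v ≠ 0 := by
    rintro rfl
    rw [pow_zero, one_mul] at hkeq
    exact hk' (hkeq ▸ hsk)
  set x := (t0 ^ 2) ^ k' with hxdef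
  have hxo : orderOf x = s ^ v := by
    rw [hxdef, orderOf_pow_of_dvd hk'0 (by rw [D.orderOf_z, hkeq]; exact dvd_mul_left _ _),
      D.orderOf_z, hkeq, Nat.mul_div_cancel _ (Nat.pos_of_ne_zero hk'0)]
  have hx : x ∈ zpowers (t0 ^ 2) := (zpowers (t0 ^ 2)).pow_mem (mem_zpowers _) _
  have hx1 : x ≠ 1 := by
    intro h
    rw [h, orderOf_one] at hxo
    exact hs.one_lt.ne' ((pow_eq_one_iff.1 hxo.symm).resolve_right hv)
  obtain ⟨c', hC, hcop⟩ := D.hC
  have hcard : Nat.card (centralizer ({a} : Set G)) = s ^ v * (k' * c') := by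
    rw [hC, hkeq, mul_assoc]
  have hnd : ¬ s ∣ k' * c' := by
    intro h
    rcases hs.dvd_mul.1 h with h | h
    · exact hk' h
    · exact hs.one_lt.ne' (Nat.eq_one_of_dvd_coprimes hcop hsk h)
  obtain ⟨g, hg⟩ := D.conj i hi1 hi2
  have hxC : x ∈ centralizer ({a} : Set G) := mem_cent_single.2 (D.comm D.a_mem (D.A0_le hx))
  have hyC : g⁻¹ * x * g ∈ centralizer ({a} : Set G) := by
    refine mem_cent_single.2 ?_
    have h3 : i * x = x * i := D.comm hi (D.A0_le hx)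
    rw [← hg] at h3
    calc a * (g⁻¹ * x * g) = g⁻¹ * ((g * a * g⁻¹) * x) * g := by group
      _ = g⁻¹ * x * g * a := by rw [h3]; group
  have hyo : orderOf (g⁻¹ * x * g) = s ^ v := by
    rw [← hxo]
    have := (MulAut.conj g⁻¹).orderOf_eq x
    rwa [MulAut.conj_apply, inv_inv] at this
  obtain ⟨c, hc, hcy⟩ := sylow_elem _ hs hnd hcard hxC hyC hxo hyo
  have hux : (c * g⁻¹) * x * (c * g⁻¹)⁻¹ ∈ zpowers (t0 ^ 2) := by
    have h1 : (c * g⁻¹) * x * (c * g⁻¹)⁻¹ = c * (g⁻¹ * x * g) * c⁻¹ := by group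
    rw [h1]
    exact (Subgroup.zpowers_le.2 hx) hcy
  have huN := D.mem_normalizer hx hx1 hux
  refine ⟨(c * g⁻¹)⁻¹, inv_mem huN, ?_⟩
  have hca : a * c = c * a := mem_cent_single.1 hc
  calc (c * g⁻¹)⁻¹ * a * (c * g⁻¹)⁻¹⁻¹ = g * (c⁻¹ * (a * c)) * g⁻¹ := by group
    _ = g * a * g⁻¹ := by rw [hca]; group
    _ = i := hg

theorem card_normalizer [Finite G] :
    Nat.card (normalizer ((zpowers (t0 ^ 2) : Subgroup G) : Set G)) = 24 * k := by
  classical
  set N := normalizer ((zpowers (t0 ^ 2) : Subgroup G) : Set G) with hN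
  letI : MulAction N G := MulAction.compHom G ((MulAut.conj).comp N.subtype)
  have hsmul : ∀ (g : N) (x : G), g • x = g.1 * x * g.1⁻¹ := fun g x => rfl
  have haj : a * t0 ^ k ∈ D.A1 := D.A1.mul_mem D.a_mem D.j_mem
  have haj1 : a * t0 ^ k ≠ 1 := by
    intro h
    apply D.a_ne_j
    rw [← inv_eq_self_of_sq D.j_sq]
    exact eq_inv_of_mul_eq_one_left h
  have haj2 : a * t0 ^ k * (a * t0 ^ k) = 1 := by
    calc a * t0 ^ k * (a * t0 ^ k) = a * (t0 ^ k * a) * t0 ^ k := by group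
      _ = (a * a) * (t0 ^ k * t0 ^ k) := by rw [← D.comm_a_pow k]; group
      _ = 1 := by rw [D.ha2, D.j_sq, one_mul]
  have horb : MulAction.orbit N a = {a, t0 ^ k, a * t0 ^ k} := by
    ext y
    simp only [MulAction.mem_orbit_iff, Set.mem_insert_iff, Set.mem_singleton_iff, hsmul]
    constructor
    · rintro ⟨g, rfl⟩
      have h1 : g.1 * t0 ^ 2 * g.1⁻¹ ∈ zpowers (t0 ^ 2) :=
        (mem_normalizer_iff.1 g.2 _).1 (mem_zpowers _)
      have h2 : g.1 * a * g.1⁻¹ ∈ D.A1 := D.conj_mem_A1 (mem_zpowers _) D.z_ne h1 D.a_mem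
      have h3 : g.1 * a * g.1⁻¹ * (g.1 * a * g.1⁻¹) = 1 := by
        calc g.1 * a * g.1⁻¹ * (g.1 * a * g.1⁻¹) = g.1 * (a * a) * g.1⁻¹ := by group
          _ = 1 := by rw [D.ha2]; group
      refine (D.invol_cases h2 h3).resolve_left ?_
      intro h
      apply D.ha1
      calc a = g.1⁻¹ * (g.1 * a * g.1⁻¹) * g.1 := by group
        _ = 1 := by rw [h]; group
    · rintro (rfl | rfl | rfl)
      · exact ⟨1, by simp⟩
      · obtain ⟨u, hu, hu'⟩ := D.exists_conj D.j_mem D.j_ne D.j_sq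
        exact ⟨⟨u, hu⟩, hu'⟩
      · obtain ⟨u, hu, hu'⟩ := D.exists_conj haj haj1 haj2
        exact ⟨⟨u, hu⟩, hu'⟩
  have hstab : Nat.card (MulAction.stabilizer N a) = 8 * k := by
    rw [← D.hd]
    refine Nat.card_congr
      { toFun := fun g => ⟨g.1.1, D.stab g.1.2 ?_⟩
        invFun := fun g => ⟨⟨g.1, D.D0_le g.2⟩, ?_⟩
        left_inv := fun g => rfl
        right_inv := fun g => rfl }
    · have h1 : g.1 • a = a := g.2
      rw [hsmul] at h1
      exact mul_inv_eq_iff_eq_mul.1 h1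
    · rw [MulAction.mem_stabilizer_iff, hsmul]
      have h1 := (mem_cent_pair.1 g.2).1
      show g.1 * a * g.1⁻¹ = a
      rw [← h1]; group
  have h1 := Nat.card_congr (MulAction.orbitEquivQuotientStabilizer N a)
  have h2 := Subgroup.card_eq_card_quotient_mul_card_subgroup (MulAction.stabilizer N a)
  have h3 : Nat.card (MulAction.orbit N a) = 3 := by
    rw [horb, Nat.card_coe_set_eq, Set.ncard_insert_of_notMem, Set.ncard_pair]
    · intro h
      apply D.ha1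
      calc a = a * t0 ^ k * (t0 ^ k)⁻¹ := by group
        _ = 1 := by rw [← h]; group
    · simp only [Set.mem_insert_iff, Set.mem_singleton_iff, not_or]
      refine ⟨D.a_ne_j, fun h => D.j_ne ?_⟩
      calc t0 ^ k = a⁻¹ * (a * t0 ^ k) := by group
        _ = 1 := by rw [← h]; group
  rw [h2, ← h1, h3, hstab]; ring

/-- the abstract form of the theorem -/
theorem isTorus [Finite G] :
    Cfsg.Agent.Lib.Lead.ReeAbs.IsTorus (zpowers (t0 ^ 2)) k (4 * k) (24 * k) where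
  cyc := inferInstance
  card := by rw [Nat.card_zpowers, D.orderOf_z]
  card_cent := by rw [D.centralizer_sub _ le_rfl D.A0_ne_bot, D.card_A1]
  comm_cent := by
    rw [D.centralizer_sub _ le_rfl D.A0_ne_bot]
    exact fun x hx y hy => D.comm hx hy
  card_norm := D.card_normalizer
  cent_eq := fun A' hle hne => by
    rw [D.centralizer_sub A' hle hne, D.centralizer_sub _ le_rfl D.A0_ne_bot]
  norm_eq := fun A' hle hne => D.normalizer_sub A' hle hne

theorem orderOf_ne_four [Finite G] {x : G}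
    (hx : x ∈ centralizer ((zpowers (t0 ^ 2) : Subgroup G) : Set G)) : orderOf x ≠ 4 := by
  rw [D.centralizer_sub _ le_rfl D.A0_ne_bot] at hx
  intro h4
  have h1 : x ^ 2 * x ^ 2 = 1 := by
    rw [← pow_add, show 2 + 2 = orderOf x from h4.symm, pow_orderOf_eq_one]
  have h2 : x ^ 2 ≠ 1 := pow_ne_one_of_lt_orderOf (by norm_num) (by rw [h4]; norm_num)
  -- `x ^ 2` lies in `zpowers (t0 ^ 2)`, which has odd order
  have h3 : x ^ 2 ∈ zpowers (t0 ^ 2) := by
    rcases D.mem_cases hx with h | h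
    · obtain ⟨n, rfl⟩ := mem_zpowers_iff.1 h
      exact mem_zpowers_iff.2 ⟨n, by rw [← zpow_natCast, ← zpow_natCast, ← zpow_mul, ← zpow_mul, mul_comm]⟩
    · obtain ⟨n, hn⟩ := mem_zpowers_iff.1 h
      have h5 : x ^ 2 = (a * x) ^ 2 := by
        rw [(show Commute a x from D.comm_a_of_mem hx).mul_pow, pow_two a, D.ha2, one_mul]
      rw [h5, ← hn]
      exact mem_zpowers_iff.2 ⟨n, by rw [← zpow_natCast, ← zpow_natCast, ← zpow_mul, ← zpow_mul, mul_comm]⟩
  have h4' := D.pow_of_mem_A0 h3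
  obtain ⟨c, hc⟩ := D.hk
  apply h2
  rw [hc, pow_succ, pow_mul, pow_two (x ^ 2), h1, one_pow, one_mul] at h4'
  exact h4'

end Data

end Cfsg.Agent.Lib.Helper16.ReeTor
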